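import Cfsg.Agent.Lib.Dickson.Maximal.Subfield

/-!
# Conjugating a subgroup with traces in a subfield into the subfield group
-/

set_option autoImplicit false
set_option linter.unusedSectionVars false

open Matrix
open scoped MatrixGroups

namespace Cfsg.Lib.Dickson

variable {F : Type*} [Field F] [Fintype F]

local notation "SL2" => Matrix.SpecialLinearGroup (Fin 2) F
local notation "PSL2" => Matrix.ProjectiveSpecialLinearGroup (Fin 2) F

/-- The trace of an element of finite exponent. -/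
theorem trace_of_exponent {g : SL2} {k : ℕ} (h : (QuotientGroup.mk g : PSL2) ^ (k + 1) = 1) :
    (g 0 0 + g 1 1 = 2 ∨ g 0 0 + g 1 1 = -2) ∨ Cfsg.Lib.Spec.chCoef (g 0 0 + g 1 1) (k + 1) = 0 := by
  by_cases h1 : (QuotientGroup.mk g : PSL2) = 1
  · left
    obtain ⟨-, -, h11⟩ := mem_center_sl ((QuotientGroup.eq_one_iff g).mp h1)
    obtain ⟨h01, h10, -⟩ := mem_center_sl ((QuotientGroup.eq_one_iff g).mp h1)
    have hd := g.2
    rw [Matrix.det_fin_two, h01, h10, h11] at hd
    rcases mul_self_eq_one_iff.mp (show g 0 0 * g 0 0 = 1 by linear_combination hd) with h' | h'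
    · left; rw [h11, h']; norm_num
    · right; rw [h11, h']; norm_num
  · right
    have hns := not_scalar_of_ne_one h1
    rw [← QuotientGroup.mk_pow, QuotientGroup.eq_one_iff] at h
    obtain ⟨e01, e10, e11⟩ := mem_center_sl h
    rw [Matrix.SpecialLinearGroup.coe_pow, Cfsg.Lib.Spec.pow_succ_eq] at e01 e10 e11
    simp [Cfsg.Lib.Spec.trc] at e01 e10 e11
    rcases hns with h' | h' | h'
    · exact e01.resolve_right h'
    · exact e10.resolve_right h'
    · exact e11.resolve_left (Ne.symm h')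

theorem trace_zero_of_involution (h2 : (2 : F) ≠ 0) {g : SL2} (h : (QuotientGroup.mk g : PSL2) ^ 2 = 1)
    (h1 : (QuotientGroup.mk g : PSL2) ≠ 1) : g 0 0 + g 1 1 = 0 := by
  rcases trace_of_exponent (k := 1) h with ht | ht
  · exfalso
    -- trace `± 2` together with exponent two forces a scalar
    have hns := not_scalar_of_ne_one h1
    rw [← QuotientGroup.mk_pow, QuotientGroup.eq_one_iff] at h
    obtain ⟨e01, e10, e11⟩ := mem_center_sl h
    rw [Matrix.SpecialLinearGroup.coe_pow, sq] at e01 e10 e11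
    simp [Matrix.mul_apply, Fin.sum_univ_two] at e01 e10 e11
    have ht0 : g 0 0 + g 1 1 ≠ 0 := by rcases ht with h | h <;> rw [h] <;> simp [h2]
    rcases hns with h' | h' | h'
    · exact mul_ne_zero h' ht0 (by linear_combination e01)
    · exact mul_ne_zero h' ht0 (by linear_combination e10)
    · exact mul_ne_zero (sub_ne_zero.mpr h') ht0 (by linear_combination -e11)
  · simpa [Cfsg.Lib.Spec.chCoef] using ht

theorem conjSL_trace (U : GL (Fin 2) F) (g : SL2) :
    (conjSL U g) 0 0 + (conjSL U g) 1 1 = g 0 0 + g 1 1 := by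
  rw [← Matrix.trace_fin_two, ← Matrix.trace_fin_two, conjSL_coe, Matrix.trace_units_conj]

theorem conjSL_eq_of_mul {W : GL (Fin 2) F} {g h : SL2}
    (he : (g : Matrix (Fin 2) (Fin 2) F) * W = (W : Matrix (Fin 2) (Fin 2) F) * h) : conjSL W⁻¹ g = h := by
  apply Subtype.ext
  rw [conjSL_coe, inv_inv, Matrix.mul_assoc, he, ← Matrix.mul_assoc, Units.inv_mul, one_mul]

/-- Two noncommuting transvections. -/
theorem entries_of_transvections (p : ℕ) [Fact p.Prime] [CharP F p] (L : Subfield F)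
    {M : Subgroup (Matrix.ProjectiveSpecialLinearGroup (Fin 2) F)} (hpM : p ∣ Nat.card M)
    (hN : ¬ ∃ P : Sylow p (Matrix.ProjectiveSpecialLinearGroup (Fin 2) F),
      M ≤ Subgroup.normalizer ((P : Subgroup (Matrix.ProjectiveSpecialLinearGroup (Fin 2) F)) :
        Set (Matrix.ProjectiveSpecialLinearGroup (Fin 2) F)))
    (htr : ∀ g : SL2, (QuotientGroup.mk g : PSL2) ∈ M → g 0 0 + g 1 1 ∈ L) :
    ∃ U : GL (Fin 2) F, ∀ g : SL2, (QuotientGroup.mk g : PSL2) ∈ M →
      ∀ i j, (conjSL U g : Matrix (Fin 2) (Fin 2) F) i j ∈ L := by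
  classical
  have hp := (Fact.out : p.Prime)
  -- lifts of order `p`
  have hlift : ∀ x : PSL2, x ^ p = 1 → ∃ g : SL2, (QuotientGroup.mk g : PSL2) = x ∧ g ^ p = 1 := by
    intro x hx
    obtain ⟨g, rfl⟩ := QuotientGroup.mk_surjective x
    rw [← QuotientGroup.mk_pow, QuotientGroup.eq_one_iff] at hx
    have hz2 : g ^ p * g ^ p = 1 := by
      obtain ⟨e01, e10, e11⟩ := mem_center_sl hx
      have hd := (g ^ p).2
      rw [Matrix.det_fin_two, e01, e10, e11] at hd
      apply Subtype.ext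
      show ((g ^ p : SL2) : Matrix (Fin 2) (Fin 2) F) * ((g ^ p : SL2) : Matrix (Fin 2) (Fin 2) F) = 1
      rw [Matrix.eta_fin_two ((g ^ p : SL2) : Matrix (Fin 2) (Fin 2) F), e01, e10, e11, Matrix.mul_fin_two,
        Matrix.one_fin_two]
      ext i j
      fin_cases i <;> fin_cases j <;> simp <;> linear_combination hd
    have hzp : (g ^ p) ^ p = g ^ p := by
      rcases hp.eq_two_or_odd' with h2 | ⟨j, hj⟩
      · subst h2
        have hc := Cfsg.Lib.Spec.center_eq_bot_of_char_two (F := F)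
        rw [hc, Subgroup.mem_bot] at hx
        rw [hx, one_pow]
      · nth_rewrite 2 [hj]
        rw [pow_succ, pow_mul, sq, hz2, one_pow, one_mul]
    refine ⟨g * g ^ p, ?_, ?_⟩
    · rw [QuotientGroup.mk_mul, (QuotientGroup.eq_one_iff _).mpr hx, mul_one]
    · rw [(Commute.self_pow g p).mul_pow, hzp, hz2]
  have htrace : ∀ g : SL2, g ^ p = 1 → g 0 0 + g 1 1 = 2 := by
    intro g hg
    set N : Matrix (Fin 2) (Fin 2) F := (g : Matrix (Fin 2) (Fin 2) F) - 1 with hNdef
    have hNp : N ^ p = 0 := by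
      rw [hNdef, sub_pow_char_of_commute p (Commute.one_right _), one_pow, ← Matrix.SpecialLinearGroup.coe_pow,
        hg, Matrix.SpecialLinearGroup.coe_one, sub_self]
    have hdet : N.det = 0 := by
      have h := congrArg Matrix.det hNp
      rw [Matrix.det_pow, Matrix.det_zero] at h
      exact pow_eq_zero_iff hp.ne_zero |>.mp h
    have hd := g.2
    rw [Matrix.det_fin_two] at hd hdet
    simp [hNdef] at hdet
    linear_combination hd - hdet
  obtain ⟨⟨x, hxM⟩, hxo⟩ := exists_prime_orderOf_dvd_card' (G := M) p hpM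
  rw [Subgroup.orderOf_mk] at hxo
  obtain ⟨g, hgx, hgp⟩ := hlift x (by rw [← hxo]; exact pow_orderOf_eq_one x)
  have hg1 : g ≠ 1 := fun h => by
    rw [h, QuotientGroup.mk_one] at hgx
    rw [← hgx, orderOf_one] at hxo
    exact hp.one_lt.ne hxo
  have hgt := htrace g hgp
  have hgd := g.2
  rw [Matrix.det_fin_two] at hgd
  let T : SL2 := ⟨!![1, 1; 0, 1], by simp [Matrix.det_fin_two]⟩
  obtain ⟨U₁, hU₁⟩ : ∃ U : GL (Fin 2) F, conjSL U g = T := by
    by_cases hc : g 1 0 = 0
    · have h00 : g 0 0 = 1 := by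
        have : (g 0 0 - 1) * (g 0 0 - 1) = 0 := by linear_combination g 0 0 * hgt - hgd - g 0 1 * hc
        exact sub_eq_zero.mp (mul_self_eq_zero.mp this)
      have h11 : g 1 1 = 1 := by linear_combination hgt - h00
      have hb : g 0 1 ≠ 0 := fun hb => hg1 (Subtype.ext (by
        show (g : Matrix (Fin 2) (Fin 2) F) = 1
        ext i j; fin_cases i <;> fin_cases j <;> simp [hc, hb, h00, h11]))
      refine ⟨(GeneralLinearGroup.mkOfDetNeZero !![g 0 1, 0; 0, 1] (by simp [Matrix.det_fin_two, hb]))⁻¹,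
        conjSL_eq_of_mul ?_⟩
      show (g : Matrix (Fin 2) (Fin 2) F) * !![g 0 1, 0; 0, 1] = !![g 0 1, 0; 0, 1] * !![1, 1; 0, 1]
      ext i j
      fin_cases i <;> fin_cases j <;> simp [Matrix.mul_apply, Fin.sum_univ_two, hc, h00, h11]
    · refine ⟨(GeneralLinearGroup.mkOfDetNeZero !![g 0 0 - 1, 1; g 1 0, 0] (by simp [Matrix.det_fin_two, hc]))⁻¹,
        conjSL_eq_of_mul ?_⟩
      show (g : Matrix (Fin 2) (Fin 2) F) * !![g 0 0 - 1, 1; g 1 0, 0] =
        !![g 0 0 - 1, 1; g 1 0, 0] * !![1, 1; 0, 1]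
      ext i j
      fin_cases i <;> fin_cases j <;> simp [Matrix.mul_apply, Fin.sum_univ_two]
      all_goals first
        | linear_combination hgt
        | linear_combination g 0 0 * hgt - hgd
        | linear_combination g 1 0 * hgt
  -- a second transvection
  obtain ⟨h, hhM, hhp, hh10⟩ : ∃ h : SL2, (QuotientGroup.mk h : PSL2) ∈ M ∧ h ^ p = 1 ∧
      (conjSL U₁ h) 1 0 ≠ 0 := by
    by_contra hcon
    push Not at hcon
    have hshape : ∀ h : SL2, (QuotientGroup.mk h : PSL2) ∈ M → h ^ p = 1 →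
        ∃ b : F, (conjSL U₁ h : Matrix (Fin 2) (Fin 2) F) = !![1, b; 0, 1] := by
      intro h hM hh
      have e10 := hcon h hM hh
      have et : (conjSL U₁ h) 0 0 + (conjSL U₁ h) 1 1 = 2 := by rw [conjSL_trace]; exact htrace h hh
      have ed := (conjSL U₁ h).2
      rw [Matrix.det_fin_two] at ed
      have h00 : (conjSL U₁ h) 0 0 = 1 := by
        have : ((conjSL U₁ h) 0 0 - 1) * ((conjSL U₁ h) 0 0 - 1) = 0 := by
          linear_combination (conjSL U₁ h) 0 0 * et - ed - (conjSL U₁ h) 0 1 * e10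
        exact sub_eq_zero.mp (mul_self_eq_zero.mp this)
      refine ⟨(conjSL U₁ h) 0 1, ?_⟩
      ext i j
      fin_cases i <;> fin_cases j <;> simp [e10, h00]
      linear_combination et - h00
    let R : Subgroup M :=
      { carrier := {y | (y : PSL2) ^ p = 1}
        one_mem' := one_pow p
        inv_mem' := fun {y} hy => by
          show ((y⁻¹ : M) : PSL2) ^ p = 1
          rw [InvMemClass.coe_inv, inv_pow, show (y : PSL2) ^ p = 1 from hy, inv_one]
        mul_mem' := fun {y z} hy hz => by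
          obtain ⟨a, ha, hap⟩ := hlift _ hy
          obtain ⟨b, hb, hbp⟩ := hlift _ hz
          obtain ⟨s, hs⟩ := hshape a (ha ▸ y.2) hap
          obtain ⟨t, ht⟩ := hshape b (hb ▸ z.2) hbp
          have hab : Commute a b := by
            have e : conjSL U₁ (a * b) = conjSL U₁ (b * a) := by
              rw [map_mul, map_mul]
              apply Subtype.ext
              rw [Matrix.SpecialLinearGroup.coe_mul, Matrix.SpecialLinearGroup.coe_mul, hs, ht, Matrix.mul_fin_two,
                Matrix.mul_fin_two]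
              simp [add_comm]
            have e' := congrArg (conjSL U₁⁻¹) e
            rw [← conjSL_mul, ← conjSL_mul, inv_mul_cancel] at e'
            have hone : ∀ u : SL2, conjSL (1 : GL (Fin 2) F) u = u := fun u => Subtype.ext (by simp [conjSL_coe])
            rwa [hone, hone] at e'
          show ((y * z : M) : PSL2) ^ p = 1
          rw [Subgroup.coe_mul, ← ha, ← hb, ← QuotientGroup.mk_mul, ← QuotientGroup.mk_pow, hab.mul_pow, hap, hbp,
            one_mul, QuotientGroup.mk_one] }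
    haveI : R.Normal := ⟨fun y hy z => by
      show ((z * y * z⁻¹ : M) : PSL2) ^ p = 1
      rw [Subgroup.coe_mul, Subgroup.coe_mul, InvMemClass.coe_inv, conj_pow, show (y : PSL2) ^ p = 1 from hy,
        mul_one, mul_inv_cancel]⟩
    have hR : IsPGroup p R := fun y => ⟨1, by
      rw [pow_one]
      exact Subtype.ext (Subtype.ext (show ((y : M) : PSL2) ^ p = 1 from y.2))⟩
    have hRne : R ≠ ⊥ := by
      intro hb
      have : (⟨x, hxM⟩ : M) ∈ R := by show x ^ p = 1; rw [← hxo]; exact pow_orderOf_eq_one x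
      rw [hb, Subgroup.mem_bot] at this
      rw [show x = 1 from congrArg Subtype.val this, orderOf_one] at hxo
      exact hp.one_lt.ne hxo
    exact hN (le_normalizer_of_normal_pgroup p M R hR hRne).2
  -- normalise the second one
  set c := (conjSL U₁ h) 1 0 with hc
  set s := (1 - (conjSL U₁ h) 0 0) / c with hs
  let E : GL (Fin 2) F := GeneralLinearGroup.mkOfDetNeZero !![1, -s; 0, 1] (by simp [Matrix.det_fin_two])
  have hET : conjSL E⁻¹ T = T := conjSL_eq_of_mul (by
    show (!![1, 1; 0, 1] : Matrix (Fin 2) (Fin 2) F) * !![1, -s; 0, 1] = !![1, -s; 0, 1] * !![1, 1; 0, 1]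
    rw [Matrix.mul_fin_two, Matrix.mul_fin_two]
    simp [add_comm])
  let H : SL2 := ⟨!![1, 0; c, 1], by simp [Matrix.det_fin_two]⟩
  have hsc : s * c = 1 - (conjSL U₁ h) 0 0 := div_mul_cancel₀ _ hh10
  have het : (conjSL U₁ h) 0 0 + (conjSL U₁ h) 1 1 = 2 := by rw [conjSL_trace]; exact htrace h hhp
  have hed := (conjSL U₁ h).2
  rw [Matrix.det_fin_two] at hed
  have h01 : (conjSL U₁ h) 0 1 = -(s * s * c) := by
    apply mul_right_cancel₀ hh10
    linear_combination (conjSL U₁ h) 0 0 * het - hed + (s * c + 1 - (conjSL U₁ h) 0 0) * hsc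
  have hEH : conjSL E⁻¹ (conjSL U₁ h) = H := conjSL_eq_of_mul (by
    show (conjSL U₁ h : Matrix (Fin 2) (Fin 2) F) * !![1, -s; 0, 1] = !![1, -s; 0, 1] * !![1, 0; c, 1]
    ext i j
    fin_cases i <;> fin_cases j <;> simp [Matrix.mul_apply, Fin.sum_univ_two, ← hc]
    · linear_combination hsc
    · linear_combination h01 - s * hsc
    · linear_combination het - hsc)
  refine ⟨E⁻¹ * U₁, fun y hy => ?_⟩
  set G := conjSL (E⁻¹ * U₁) y with hG
  have hgM : (QuotientGroup.mk g : PSL2) ∈ M := hgx ▸ hxM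
  have tG : G 0 0 + G 1 1 ∈ L := by rw [hG, conjSL_trace]; exact htr y hy
  have hUg : conjSL (E⁻¹ * U₁) g = T := by rw [conjSL_mul, hU₁, hET]
  have hUh : conjSL (E⁻¹ * U₁) h = H := by rw [conjSL_mul, hEH]
  have tr1 : ∀ z : SL2, (QuotientGroup.mk z : PSL2) ∈ M →
      (conjSL (E⁻¹ * U₁) z) 0 0 + (conjSL (E⁻¹ * U₁) z) 1 1 ∈ L := fun z hz => by
    rw [conjSL_trace]; exact htr z hz
  have tc : c ∈ L := by
    have h' := tr1 (g * h) (by rw [QuotientGroup.mk_mul]; exact M.mul_mem hgM hhM)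
    rw [map_mul, hUg, hUh] at h'
    simp only [Matrix.SpecialLinearGroup.coe_mul] at h'
    simp [T, H, Matrix.mul_apply, Fin.sum_univ_two] at h'
    have h3 := L.sub_mem h' (L.add_mem L.one_mem L.one_mem)
    rwa [show (1 : F) + c + 1 - (1 + 1) = c by ring] at h3
  have t10 : G 1 0 ∈ L := by
    have h' := tr1 (y * g) (by rw [QuotientGroup.mk_mul]; exact M.mul_mem hy hgM)
    rw [map_mul, hUg, ← hG] at h'
    simp only [Matrix.SpecialLinearGroup.coe_mul] at h'
    simp [T, Matrix.mul_apply, Fin.sum_univ_two] at h'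
    have h3 := L.sub_mem h' tG
    rwa [show G 0 0 + (G 1 0 + G 1 1) - (G 0 0 + G 1 1) = G 1 0 by ring] at h3
  have t01 : G 0 1 ∈ L := by
    have h' := tr1 (y * h) (by rw [QuotientGroup.mk_mul]; exact M.mul_mem hy hhM)
    rw [map_mul, hUh, ← hG] at h'
    simp only [Matrix.SpecialLinearGroup.coe_mul] at h'
    simp [H, Matrix.mul_apply, Fin.sum_univ_two] at h'
    have h3 := L.mul_mem (L.sub_mem h' tG) (L.inv_mem tc)
    rwa [show (G 0 0 + G 0 1 * c + G 1 1 - (G 0 0 + G 1 1)) * c⁻¹ = G 0 1 by field_simp; ring] at h3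
  have t00 : G 0 0 ∈ L := by
    have h' := tr1 (y * g * h) (by
      rw [QuotientGroup.mk_mul, QuotientGroup.mk_mul]; exact M.mul_mem (M.mul_mem hy hgM) hhM)
    rw [map_mul, map_mul, hUg, hUh, ← hG] at h'
    simp only [Matrix.SpecialLinearGroup.coe_mul] at h'
    simp [T, H, Matrix.mul_apply, Fin.sum_univ_two] at h'
    have h3 := L.mul_mem (L.sub_mem h' (L.add_mem (L.add_mem tG (L.mul_mem t01 tc)) t10)) (L.inv_mem tc)
    rwa [show (G 0 0 + (G 0 0 + G 0 1) * c + (G 1 0 + G 1 1) - (G 0 0 + G 1 1 + G 0 1 * c + G 1 0)) * c⁻¹ =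
      G 0 0 by field_simp; ring] at h3
  have t11 : G 1 1 ∈ L := by
    have h3 := L.sub_mem tG t00
    rwa [add_sub_cancel_left] at h3
  intro i j
  fin_cases i <;> fin_cases j
  exacts [t00, t01, t10, t11]

/-- A four-group in odd characteristic. -/
theorem entries_of_four_group (L : Subfield F) (h2 : (2 : F) ≠ 0)
    {M : Subgroup (Matrix.ProjectiveSpecialLinearGroup (Fin 2) F)}
    {x y : Matrix.ProjectiveSpecialLinearGroup (Fin 2) F} (hx : x ∈ M) (hy : y ∈ M) (hx2 : x ^ 2 = 1)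
    (hy2 : y ^ 2 = 1) (hxy : Commute x y) (hx1 : x ≠ 1) (hy1 : y ≠ 1) (hne : x ≠ y)
    (htr : ∀ g : SL2, (QuotientGroup.mk g : PSL2) ∈ M → g 0 0 + g 1 1 ∈ L) :
    ∃ U : GL (Fin 2) F, (∀ g : SL2, (QuotientGroup.mk g : PSL2) ∈ M →
      ∀ i j, (conjSL U g : Matrix (Fin 2) (Fin 2) F) i j ∈ L) ∧
      ∃ (i j : SL2) (a b : F), (((QuotientGroup.mk i : PSL2) = x ∧ (QuotientGroup.mk j : PSL2) = y) ∨
        ((QuotientGroup.mk i : PSL2) = y ∧ (QuotientGroup.mk j : PSL2) = x)) ∧
        (conjSL U i : Matrix (Fin 2) (Fin 2) F) = !![0, -1; 1, 0] ∧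
        (conjSL U j : Matrix (Fin 2) (Fin 2) F) = !![a, b; b, -a] := by
  classical
  have hxy1 : x * y ≠ 1 := fun h => hne (by
    rw [mul_eq_one_iff_eq_inv] at h
    rw [h, inv_eq_of_mul_eq_one_right (by rw [← sq]; exact hy2)])
  have hxy2 : (x * y) ^ 2 = 1 := by rw [hxy.mul_pow, hx2, hy2, one_mul]
  -- choose a pair with nonzero lower-left entry
  obtain ⟨i, j, hxyij, hiM, hjM, hij, hti, htj, htij⟩ : ∃ i j : SL2,
      (((QuotientGroup.mk i : PSL2) = x ∧ (QuotientGroup.mk j : PSL2) = y) ∨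
        ((QuotientGroup.mk i : PSL2) = y ∧ (QuotientGroup.mk j : PSL2) = x)) ∧ (QuotientGroup.mk i : PSL2) ∈ M ∧
      (QuotientGroup.mk j : PSL2) ∈ M ∧ i 1 0 ≠ 0 ∧ i 0 0 + i 1 1 = 0 ∧ j 0 0 + j 1 1 = 0 ∧
      (i * j) 0 0 + (i * j) 1 1 = 0 := by
    obtain ⟨g, rfl⟩ := QuotientGroup.mk_surjective x
    obtain ⟨k, rfl⟩ := QuotientGroup.mk_surjective y
    have tg := trace_zero_of_involution h2 hx2 hx1
    have tk := trace_zero_of_involution h2 hy2 hy1
    rw [← QuotientGroup.mk_mul] at hxy1 hxy2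
    have tgk := trace_zero_of_involution h2 hxy2 hxy1
    have dg := g.2
    have dk := k.2
    rw [Matrix.det_fin_two] at dg dk
    simp [Matrix.mul_apply, Fin.sum_univ_two] at tgk
    by_cases hg : g 1 0 ≠ 0
    · exact ⟨g, k, Or.inl ⟨rfl, rfl⟩, hx, hy, hg, tg, tk, by simpa [Matrix.mul_apply, Fin.sum_univ_two] using tgk⟩
    · by_cases hk : k 1 0 ≠ 0
      · refine ⟨k, g, Or.inr ⟨rfl, rfl⟩, hy, hx, hk, tk, tg, ?_⟩
        simp [Matrix.mul_apply, Fin.sum_univ_two]
        linear_combination tgk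
      · exfalso
        push Not at hg hk
        have hprod : (2 : F) * (g 0 0 * k 0 0) = 0 := by
          linear_combination tgk - g 0 1 * hk - k 0 1 * hg - k 1 1 * tg + g 0 0 * tk
        have hg0 : g 0 0 ≠ 0 := fun h => one_ne_zero (show (1 : F) = 0 by
          linear_combination -dg + g 1 1 * h - g 0 1 * hg)
        have hk0 : k 0 0 ≠ 0 := fun h => one_ne_zero (show (1 : F) = 0 by
          linear_combination -dk + k 1 1 * h - k 0 1 * hk)
        exact mul_ne_zero h2 (mul_ne_zero hg0 hk0) hprod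
  -- the first one becomes the standard rotation
  let W : GL (Fin 2) F := GeneralLinearGroup.mkOfDetNeZero !![1, i 0 0; 0, i 1 0] (by simp [Matrix.det_fin_two, hij])
  let J : SL2 := ⟨!![0, -1; 1, 0], by simp [Matrix.det_fin_two]⟩
  have hdi := i.2
  rw [Matrix.det_fin_two] at hdi
  have hWi : conjSL W⁻¹ i = J := conjSL_eq_of_mul (by
    show (i : Matrix (Fin 2) (Fin 2) F) * !![1, i 0 0; 0, i 1 0] = !![1, i 0 0; 0, i 1 0] * !![0, -1; 1, 0]
    ext a b
    fin_cases a <;> fin_cases b <;> simp [Matrix.mul_apply, Fin.sum_univ_two]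
    · linear_combination i 0 0 * hti - hdi
    · linear_combination i 1 0 * hti)
  set j₁ := conjSL W⁻¹ j with hj₁
  have tj : j₁ 0 0 + j₁ 1 1 = 0 := by rw [hj₁, conjSL_trace]; exact htj
  have tij : j₁ 0 1 = j₁ 1 0 := by
    have h := conjSL_trace W⁻¹ (i * j)
    rw [map_mul, hWi, htij, ← hj₁] at h
    simp only [Matrix.SpecialLinearGroup.coe_mul] at h
    simp [J, Matrix.mul_apply, Fin.sum_univ_two] at h
    linear_combination h
  set a := j₁ 0 0 with ha
  set b := j₁ 0 1 with hb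
  have hab : a ^ 2 + b ^ 2 = -1 := by
    have hd := j₁.2
    rw [Matrix.det_fin_two] at hd
    linear_combination -hd + a * tj + b * tij
  -- a standard partner with entries in `L`
  haveI : Fintype L := Fintype.ofFinite _
  obtain ⟨a₀, b₀, hab₀⟩ := exists_sq_add_sq_eq_neg_one (F := L) (fun h => h2 (by
    have := congrArg L.subtype h; rwa [map_ofNat, map_zero] at this))
  have hab0 : (a₀ : F) ^ 2 + (b₀ : F) ^ 2 = -1 := by
    have := congrArg Subtype.val hab₀; simpa using this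
  obtain ⟨u, v, huv, e1, e2⟩ : ∃ u v : F, u ^ 2 + v ^ 2 ≠ 0 ∧ u * (a - a₀) = v * (b + b₀) ∧
      u * (b - b₀) = -(v * (a + a₀)) := by
    by_cases h : (b + b₀) ^ 2 + (a - a₀) ^ 2 ≠ 0
    · exact ⟨b + b₀, a - a₀, h, by ring, by linear_combination hab - hab0⟩
    · push Not at h
      refine ⟨a + a₀, -(b - b₀), fun h' => ?_, by linear_combination hab - hab0, by ring⟩
      have : (2 : F) * 2 = 0 := by linear_combination -h - h' + 2 * hab + 2 * hab0
      exact h2 (mul_self_eq_zero.mp this)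
  let c : GL (Fin 2) F := GeneralLinearGroup.mkOfDetNeZero !![u, v; -v, u] (by
    simp [Matrix.det_fin_two]; intro h; exact huv (by linear_combination h))
  let j₀ : SL2 := ⟨!![(a₀ : F), b₀; b₀, -a₀], by
    simp [Matrix.det_fin_two]; linear_combination -hab0⟩
  have hcJ : conjSL c⁻¹ J = J := conjSL_eq_of_mul (by
    show (!![0, -1; 1, 0] : Matrix (Fin 2) (Fin 2) F) * !![u, v; -v, u] = !![u, v; -v, u] * !![0, -1; 1, 0]
    rw [Matrix.mul_fin_two, Matrix.mul_fin_two]
    simp)
  have hcj : conjSL c⁻¹ j₁ = j₀ := conjSL_eq_of_mul (by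
    show (j₁ : Matrix (Fin 2) (Fin 2) F) * !![u, v; -v, u] =
      !![u, v; -v, u] * !![(a₀ : F), b₀; b₀, -a₀]
    ext i j
    fin_cases i <;> fin_cases j <;> simp [Matrix.mul_apply, Fin.sum_univ_two, ← ha, ← hb, ← tij]
    · linear_combination e1
    · linear_combination e2
    · linear_combination e2 - v * tj
    · linear_combination -e1 + u * tj)
  have hUi : conjSL (c⁻¹ * W⁻¹) i = J := by rw [conjSL_mul, hWi, hcJ]
  have hUj : conjSL (c⁻¹ * W⁻¹) j = j₀ := by rw [conjSL_mul, ← hj₁, hcj]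
  refine ⟨c⁻¹ * W⁻¹, fun y hy => ?_, i, j, a₀, b₀, hxyij, by rw [hUi], by rw [hUj]⟩
  set G := conjSL (c⁻¹ * W⁻¹) y with hG
  have tr1 : ∀ z : SL2, (QuotientGroup.mk z : PSL2) ∈ M →
      (conjSL (c⁻¹ * W⁻¹) z) 0 0 + (conjSL (c⁻¹ * W⁻¹) z) 1 1 ∈ L := fun z hz => by
    rw [conjSL_trace]; exact htr z hz
  have q1 := tr1 y hy
  have q2 := tr1 (y * i) (by rw [QuotientGroup.mk_mul]; exact M.mul_mem hy hiM)
  have q3 := tr1 (y * j) (by rw [QuotientGroup.mk_mul]; exact M.mul_mem hy hjM)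
  have q4 := tr1 (y * i * j) (by
    rw [QuotientGroup.mk_mul, QuotientGroup.mk_mul]; exact M.mul_mem (M.mul_mem hy hiM) hjM)
  rw [map_mul, hUi, ← hG] at q2
  rw [map_mul, hUj, ← hG] at q3
  rw [map_mul, map_mul, hUi, hUj, ← hG] at q4
  rw [← hG] at q1
  simp only [Matrix.SpecialLinearGroup.coe_mul] at q2 q3 q4
  simp [J, j₀, Matrix.mul_apply, Fin.sum_univ_two] at q2 q3 q4
  have hA : (a₀ : F) ∈ L := a₀.2
  have hB : (b₀ : F) ∈ L := b₀.2
  have d1 : G 0 0 - G 1 1 ∈ L := by
    have := L.neg_mem (L.sub_mem (L.mul_mem hA q3) (L.mul_mem hB q4))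
    convert this using 1
    linear_combination (G 0 0 - G 1 1) * hab0
  have d2 : G 0 1 + G 1 0 ∈ L := by
    have := L.neg_mem (L.add_mem (L.mul_mem hB q3) (L.mul_mem hA q4))
    convert this using 1
    linear_combination (G 0 1 + G 1 0) * hab0
  have h2L : (2 : F)⁻¹ ∈ L := L.inv_mem (by rw [← one_add_one_eq_two]; exact L.add_mem L.one_mem L.one_mem)
  intro r t
  fin_cases r <;> fin_cases t
  · show G 0 0 ∈ L
    convert L.mul_mem h2L (L.add_mem q1 d1) using 1; field_simp; ring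
  · show G 0 1 ∈ L
    convert L.mul_mem h2L (L.add_mem d2 q2) using 1; field_simp; ring
  · show G 1 0 ∈ L
    convert L.mul_mem h2L (L.sub_mem d2 q2) using 1; field_simp; ring
  · show G 1 1 ∈ L
    convert L.mul_mem h2L (L.sub_mem q1 d1) using 1; field_simp; ring

end Cfsg.Lib.Dickson
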