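import Cfsg.Agent.Lib.Dickson.Maximal.FourCase

/-!
# When `S₄` is maximal in `PSL(2, q)`
-/

set_option autoImplicit false
set_option linter.unusedSectionVars false

open Matrix
open scoped MatrixGroups OnePoint

namespace Cfsg.Lib.Dickson

/-- `PGL(2, 3)` is the symmetric group of degree four. -/
theorem nonempty_pgl_three_equiv : Nonempty (Matrix.ProjGenLinGroup (Fin 2) (ZMod 3) ≃* Equiv.Perm (Fin 4)) := by
  classical
  let ε : OnePoint (ZMod 3) ≃ Fin 4 := Fintype.equivFinOfCardEq (α := Option (ZMod 3)) (by simp)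
  let φ : Matrix.ProjGenLinGroup (Fin 2) (ZMod 3) →* Equiv.Perm (Fin 4) :=
    ε.permCongrHom.toMonoidHom.comp (MulAction.toPermHom _ (OnePoint (ZMod 3)))
  have hinj : Function.Injective φ := by
    rw [injective_iff_map_eq_one]
    intro g hg
    have hfix : ∀ x : OnePoint (ZMod 3), g • x = x := fun x => by
      have h := congrArg (fun s : Equiv.Perm (Fin 4) => s (ε x)) hg
      simpa [φ, Equiv.permCongr_apply] using h
    obtain ⟨a, b, rfl⟩ := exists_aff_of_smul_infty (hfix ∞)
    have h0 := hfix ((0 : ZMod 3) : OnePoint (ZMod 3))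
    have h1 := hfix ((1 : ZMod 3) : OnePoint (ZMod 3))
    rw [aff_some, OnePoint.coe_eq_coe] at h0 h1
    obtain rfl : b = 0 := by linear_combination h0
    obtain rfl : a = 1 := Units.ext (show (a : ZMod 3) = 1 by linear_combination h1)
    exact aff_one
  haveI : Finite (Matrix.ProjGenLinGroup (Fin 2) (ZMod 3)) := Finite.of_injective φ hinj
  refine ⟨MulEquiv.ofBijective φ ((Nat.bijective_iff_injective_and_card _).mpr ⟨hinj, ?_⟩)⟩
  rw [card_PGL_two_eq, ZMod.card, Nat.card_perm, Nat.card_fin]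
  rfl

variable {F : Type*} [Field F] [Fintype F]

local notation "SL2" => Matrix.SpecialLinearGroup (Fin 2) F
local notation "PSL2" => Matrix.ProjectiveSpecialLinearGroup (Fin 2) F

theorem trace_perm_four (p : ℕ) [Fact p.Prime] [CharP F p] {g : SL2}
    {M : Subgroup (Matrix.ProjectiveSpecialLinearGroup (Fin 2) F)} (e : M ≃* Equiv.Perm (Fin 4))
    (hg : (QuotientGroup.mk g : PSL2) ∈ M) :
    g 0 0 + g 1 1 ∈ fixField p 1 ∨ (g 0 0 + g 1 1) ^ 2 = 2 := by
  rcases (sign_four_exponents (e ⟨_, hg⟩)).2.2 with h | h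
  · rcases trace_of_exponent (k := 3) (back_pow e hg h) with ht | ht
    · exact Or.inl (trace_mem_of_two p ht)
    · simp [Cfsg.Lib.Spec.chCoef] at ht
      have hprod : (g 0 0 + g 1 1) * ((g 0 0 + g 1 1) ^ 2 - 2) = 0 := by linear_combination ht
      rcases mul_eq_zero.mp hprod with h' | h'
      · exact Or.inl (h' ▸ Subfield.zero_mem _)
      · exact Or.inr (sub_eq_zero.mp h')
  · exact Or.inl (trace_exponent_two_three p 1 (Or.inr (back_pow e hg h)))

/-- For `q = p ^ 2`, `p ≥ 5`, the group `S₄` lies in a copy of `PGL(2, p)`. -/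
theorem perm_four_not_maximal_square (p : ℕ) [Fact p.Prime] [CharP F p] (h5 : 5 ≤ p)
    (hn : Fintype.card F = p ^ 2) (hns : ∀ s : F, s ^ p = s → s * s ≠ 2) {s : F} (hs : s * s = 2)
    {M : Subgroup (Matrix.ProjectiveSpecialLinearGroup (Fin 2) F)} (hM : IsCoatom M)
    (e : M ≃* Equiv.Perm (Fin 4)) : False := by
  classical
  haveI : Finite PSL2 := inferInstance
  have hp := (Fact.out : p.Prime)
  have hp2 : p ≠ 2 := by omega
  have hqodd : Fintype.card F % 2 = 1 := by
    rw [hn, Nat.pow_mod, hp.eq_two_or_odd.resolve_left hp2]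
  have h2F : (2 : F) ≠ 0 := two_ne_zero_of_odd hqodd
  have h4 : 4 ≤ Fintype.card F := by
    rw [hn]; have := Nat.pow_le_pow_left h5 2; omega
  let R₁ : Subgroup M := (alternatingGroup (Fin 4)).comap e.toMonoidHom
  let R : Subgroup M := fourFour.comap e.toMonoidHom
  have hsign : ∀ u : R₁, Equiv.Perm.sign (e (u : M)) = 1 := fun u => Equiv.Perm.mem_alternatingGroup.mp u.2
  set A : Subgroup PSL2 := R₁.map M.subtype with hA
  obtain ⟨hVA, hVB, va, vb, vab, va1, vb1, vne⟩ := vA_vB
  obtain ⟨x, y, rfl, rfl, hxM, hyM, hx2, hy2, hxy, hx1, hy1, hne⟩ :=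
    exists_four_points e vA vB va vb vab va1 vb1 vne
  have hxA : ((e.symm vA : M) : PSL2) ∈ A := ⟨e.symm vA, by
    show e (e.symm vA) ∈ alternatingGroup (Fin 4)
    rw [e.apply_symm_apply]; exact Equiv.Perm.mem_alternatingGroup.mpr hVA.2, rfl⟩
  have hyA : ((e.symm vB : M) : PSL2) ∈ A := ⟨e.symm vB, by
    show e (e.symm vB) ∈ alternatingGroup (Fin 4)
    rw [e.apply_symm_apply]; exact Equiv.Perm.mem_alternatingGroup.mpr hVB.2, rfl⟩
  have htr : ∀ g : SL2, (QuotientGroup.mk g : PSL2) ∈ A → g 0 0 + g 1 1 ∈ fixField p 1 := by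
    rintro g ⟨u, hu, hug⟩
    have hgM : (QuotientGroup.mk g : PSL2) ∈ M := hug ▸ u.2
    have hu' : u = ⟨_, hgM⟩ := Subtype.ext hug
    subst hu'
    refine trace_exponent_two_three p 1 ?_
    exact ((sign_four_exponents _).1 (Equiv.Perm.mem_alternatingGroup.mp hu)).imp (back_pow e hgM) (back_pow e hgM)
  obtain ⟨U, hU, i, j, a, b, hij, hUi, hUj⟩ :=
    entries_of_four_group (fixField p 1) h2F hxA hyA hx2 hy2 hxy hx1 hy1 hne htr
  set O := fieldPSL (fixField (F := F) p 1) U with hO
  have hAO : A ≤ O := by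
    intro z hz
    obtain ⟨g, rfl⟩ := QuotientGroup.mk_surjective z
    exact mk_mem_fieldPSL.mpr (mem_fieldSL.mpr fun r t => hU g hz r t)
  -- the outer element
  have hs2 : (s / 2) * (s / 2) + (s / 2) * (s / 2) = 1 := by
    field_simp
    linear_combination 2 * hs
  let c : SL2 := ⟨!![s / 2, -(s / 2); s / 2, s / 2], by rw [Matrix.det_fin_two_of]; linear_combination hs2⟩
  set δ := conjSL U⁻¹ c with hδ
  have hδU : conjSL U δ = c := conjSL_inv_apply U c
  have hinj : ∀ u v : SL2, conjSL U u = conjSL U v → u = v := by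
    intro u v h
    have h1 := congrArg (conjSL U⁻¹) h
    rw [← conjSL_mul, ← conjSL_mul, inv_mul_cancel] at h1
    have hone : ∀ u : SL2, conjSL (1 : GL (Fin 2) F) u = u := fun u => Subtype.ext (by simp [conjSL_coe])
    rwa [hone, hone] at h1
  obtain ⟨r1, r2⟩ := rot_conj (a := a) (b := b) hs h2F
  have hci : δ * i = i * δ := hinj _ _ (Subtype.ext (by
    rw [map_mul, map_mul, hδU]
    show (c : Matrix (Fin 2) (Fin 2) F) * (conjSL U i : Matrix (Fin 2) (Fin 2) F) =
      (conjSL U i : Matrix (Fin 2) (Fin 2) F) * (c : Matrix (Fin 2) (Fin 2) F)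
    rw [hUi]; exact r1))
  have hcj : δ * j = i * j * δ := hinj _ _ (Subtype.ext (by
    rw [map_mul, map_mul, map_mul, hδU]
    show (c : Matrix (Fin 2) (Fin 2) F) * (conjSL U j : Matrix (Fin 2) (Fin 2) F) =
      (conjSL U i : Matrix (Fin 2) (Fin 2) F) * (conjSL U j : Matrix (Fin 2) (Fin 2) F) *
        (c : Matrix (Fin 2) (Fin 2) F)
    rw [hUi, hUj]; exact r2))
  set X : PSL2 := QuotientGroup.mk i
  set Y : PSL2 := QuotientGroup.mk j
  set D : PSL2 := QuotientGroup.mk δ with hD
  have hX : D * X * D⁻¹ = X := by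
    rw [hD, ← QuotientGroup.mk_mul, hci, QuotientGroup.mk_mul, mul_inv_cancel_right]
  have hY : D * Y * D⁻¹ = X * Y := by
    rw [hD, ← QuotientGroup.mk_mul, hcj, QuotientGroup.mk_mul, mul_inv_cancel_right, QuotientGroup.mk_mul]
  -- the four-group of `M` is generated by `X` and `Y`
  set W : Subgroup PSL2 := R.map M.subtype with hW
  have hWgen : W = Subgroup.closure {X, Y} := by
    have hXY : ({X, Y} : Set PSL2) = {((e.symm vA : M) : PSL2), ((e.symm vB : M) : PSL2)} := by
      rcases hij with ⟨h1, h2⟩ | ⟨h1, h2⟩ <;> rw [h1, h2]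
      exact Set.pair_comm _ _
    rw [hXY]
    refine le_antisymm ?_ ((Subgroup.closure_le _).mpr ?_)
    · rintro _ ⟨u, hu, rfl⟩
      have hu' : e u * e u = 1 ∧ Equiv.Perm.sign (e u) = 1 := hu
      rcases fourFour_cases _ hu'.1 hu'.2 with h | h | h | h
      · rw [show u = 1 from e.injective (h.trans (map_one e).symm)]; exact Subgroup.one_mem _
      · rw [show u = e.symm vA by rw [← h, e.symm_apply_apply]]; exact Subgroup.subset_closure (Or.inl rfl)
      · rw [show u = e.symm vB by rw [← h, e.symm_apply_apply]]; exact Subgroup.subset_closure (Or.inr rfl)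
      · rw [show u = e.symm vA * e.symm vB by rw [← map_mul, ← h, e.symm_apply_apply]]
        exact Subgroup.mul_mem _ (Subgroup.subset_closure (Or.inl rfl)) (Subgroup.subset_closure (Or.inr rfl))
    · rintro _ (rfl | rfl)
      · exact ⟨e.symm vA, by show e (e.symm vA) ∈ fourFour; rw [e.apply_symm_apply]; exact hVA, rfl⟩
      · exact ⟨e.symm vB, by show e (e.symm vB) ∈ fourFour; rw [e.apply_symm_apply]; exact hVB, rfl⟩
  have hnorm : ∀ (g : PSL2) (K : Subgroup PSL2), (∀ z ∈ K, g * z * g⁻¹ ∈ K) →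
      g ∈ Subgroup.normalizer (K : Set PSL2) := by
    intro g K h
    have hmap : K.map (MulAut.conj g).toMonoidHom = K := by
      refine Subgroup.eq_of_le_of_card_ge ?_ (le_of_eq ?_)
      · rintro _ ⟨z, hz, rfl⟩; exact h z hz
      · exact Nat.card_congr (K.equivMapOfInjective _ (MulAut.conj _).injective).toEquiv
    rw [Subgroup.mem_normalizer_iff]
    intro z
    refine ⟨h z, fun hz => ?_⟩
    rw [← hmap] at hz
    obtain ⟨w, hw, hwz⟩ := hz
    rwa [show w = z from (MulAut.conj g).injective hwz] at hw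
  have hWN : Subgroup.normalizer (W : Set PSL2) = M := by
    have hle : M ≤ Subgroup.normalizer (W : Set PSL2) := fun m hm => hnorm m W (by
      rintro _ ⟨u, hu, rfl⟩
      exact ⟨⟨m, hm⟩ * u * ⟨m, hm⟩⁻¹, Subgroup.Normal.conj_mem inferInstance u hu _, rfl⟩)
    rcases eq_or_lt_of_le hle with h | h
    · exact h.symm
    · refine absurd (hM.2 _ h) (normalizer_ne_top h4 ?_ ?_)
      · intro hb
        have : ((e.symm vA : M) : PSL2) ∈ W :=
          ⟨e.symm vA, by show e (e.symm vA) ∈ fourFour; rw [e.apply_symm_apply]; exact hVA, rfl⟩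
        rw [hb, Subgroup.mem_bot] at this
        exact hx1 this
      · intro ht
        exact hM.1 (top_le_iff.mp (ht ▸ Subgroup.map_subtype_le R))
  have hDM : D ∈ M := by
    rw [← hWN]
    refine hnorm D W ?_
    rw [hWgen]
    intro z hz
    induction hz using Subgroup.closure_induction with
    | mem z hz =>
      rcases hz with rfl | rfl
      · rw [hX]; exact Subgroup.subset_closure (Or.inl rfl)
      · rw [hY]; exact Subgroup.mul_mem _ (Subgroup.subset_closure (Or.inl rfl)) (Subgroup.subset_closure (Or.inr rfl))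
    | one => simp
    | mul z w _ _ hz hw =>
      have := Subgroup.mul_mem _ hz hw
      rwa [show D * z * D⁻¹ * (D * w * D⁻¹) = D * (z * w) * D⁻¹ by group] at this
    | inv z _ hz =>
      have := Subgroup.inv_mem _ hz
      rwa [show (D * z * D⁻¹)⁻¹ = D * z⁻¹ * D⁻¹ by group] at this
  have hDO : D ∉ O := by
    intro h
    have h' := mem_fieldSL.mp (mk_mem_fieldPSL.mp h) 0 0
    rw [hδU] at h'
    have h2' : s ∈ fixField (F := F) p 1 := by
      have := Subfield.mul_mem _ (two_mem_fix p 1) (show s / 2 ∈ fixField (F := F) p 1 by simpa [c] using h')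
      rwa [mul_div_cancel₀ _ h2F] at this
    rw [mem_fixField, pow_one] at h2'
    exact hns s h2' hs
  have hsD : Equiv.Perm.sign (e ⟨D, hDM⟩) = -1 := by
    refine (Int.units_eq_one_or _).resolve_left fun h => hDO (hAO ⟨⟨D, hDM⟩, ?_, rfl⟩)
    exact Equiv.Perm.mem_alternatingGroup.mpr h
  -- the outer element normalises `O`
  have hDN : D ∈ Subgroup.normalizer (O : Set PSL2) := by
    refine hnorm D O fun z hz => ?_
    obtain ⟨g, rfl⟩ := QuotientGroup.mk_surjective z
    rw [hD, ← QuotientGroup.mk_inv, ← QuotientGroup.mk_mul, ← QuotientGroup.mk_mul, mk_mem_fieldPSL, mem_fieldSL]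
    have hg := mem_fieldSL.mp (mk_mem_fieldPSL.mp hz)
    intro r t
    rw [map_mul, map_mul, map_inv, hδU]
    have hcinv : ((c⁻¹ : SL2) : Matrix (Fin 2) (Fin 2) F) = !![s / 2, s / 2; -(s / 2), s / 2] := by
      rw [Matrix.SpecialLinearGroup.coe_inv, Matrix.adjugate_fin_two]
      ext k l; fin_cases k <;> fin_cases l <;> simp [c]
    show ((c : Matrix (Fin 2) (Fin 2) F) * (conjSL U g : Matrix (Fin 2) (Fin 2) F) *
      ((c⁻¹ : SL2) : Matrix (Fin 2) (Fin 2) F)) r t ∈ fixField p 1
    rw [hcinv]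
    have e00 := hg 0 0
    have e01 := hg 0 1
    have e10 := hg 1 0
    have e11 := hg 1 1
    have h2i : (2 : F)⁻¹ ∈ fixField (F := F) p 1 := Subfield.inv_mem _ (two_mem_fix p 1)
    have hss : (s / 2) * (s / 2) = 2⁻¹ := by field_simp; linear_combination hs
    show ((!![s / 2, -(s / 2); s / 2, s / 2] : Matrix (Fin 2) (Fin 2) F) *
      (conjSL U g : Matrix (Fin 2) (Fin 2) F) * !![s / 2, s / 2; -(s / 2), s / 2]) r t ∈ _
    simp only [Matrix.mul_apply, Fin.sum_univ_two]
    fin_cases r <;> fin_cases t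
    · convert Subfield.mul_mem _ h2i
        (Subfield.add_mem _ (Subfield.sub_mem _ e00 e10) (Subfield.sub_mem _ e11 e01)) using 1
      simp; linear_combination ((conjSL U g) 0 0 - (conjSL U g) 1 0 + ((conjSL U g) 1 1 - (conjSL U g) 0 1)) * hss
    · convert Subfield.mul_mem _ h2i
        (Subfield.add_mem _ (Subfield.sub_mem _ e00 e10) (Subfield.sub_mem _ e01 e11)) using 1
      simp; linear_combination ((conjSL U g) 0 0 - (conjSL U g) 1 0 + ((conjSL U g) 0 1 - (conjSL U g) 1 1)) * hss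
    · convert Subfield.mul_mem _ h2i
        (Subfield.sub_mem _ (Subfield.add_mem _ e00 e10) (Subfield.add_mem _ e01 e11)) using 1
      simp; linear_combination ((conjSL U g) 0 0 + (conjSL U g) 1 0 - ((conjSL U g) 0 1 + (conjSL U g) 1 1)) * hss
    · convert Subfield.mul_mem _ h2i
        (Subfield.add_mem _ (Subfield.add_mem _ e00 e10) (Subfield.add_mem _ e01 e11)) using 1
      simp; linear_combination ((conjSL U g) 0 0 + (conjSL U g) 1 0 + ((conjSL U g) 0 1 + (conjSL U g) 1 1)) * hss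
  have hMO : M ≤ Subgroup.normalizer (O : Set PSL2) := by
    intro m hm
    rcases Int.units_eq_one_or (Equiv.Perm.sign (e ⟨m, hm⟩)) with h | h
    · exact Subgroup.le_normalizer (hAO ⟨⟨m, hm⟩, Equiv.Perm.mem_alternatingGroup.mpr h, rfl⟩)
    · have hmem : D⁻¹ * m ∈ A := by
        refine ⟨⟨D, hDM⟩⁻¹ * ⟨m, hm⟩, Equiv.Perm.mem_alternatingGroup.mpr ?_, rfl⟩
        show Equiv.Perm.sign (e (⟨D, hDM⟩⁻¹ * ⟨m, hm⟩)) = 1
        rw [map_mul, map_inv, map_mul, map_inv, h, hsD]
        rfl
      have := Subgroup.mul_mem _ hDN (Subgroup.le_normalizer (hAO hmem))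
      rwa [mul_inv_cancel_left] at this
  have hcO := card_fieldPSL (fixField (F := F) p 1) U
  rw [card_fixField p hn (one_dvd 2), pow_one, Nat.gcd_eq_left (show 2 ∣ Fintype.card F - 1 by omega)] at hcO
  have hG := two_mul_card_psl (F := F) hqodd
  have h24 : 24 ≤ p ^ 2 - 1 := by have := Nat.pow_le_pow_left h5 2; omega
  have h120 := Nat.mul_le_mul h5 h24
  have hOtop : O ≠ ⊤ := by
    intro h
    rw [← hO, h, Subgroup.card_top, hG, hn] at hcO
    have h1 : p < p ^ 2 := by rw [sq]; exact lt_mul_of_one_lt_right (by omega) (by omega)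
    have h2 : p ^ 2 - 1 ≤ (p ^ 2) ^ 2 - 1 := Nat.sub_le_sub_right (Nat.pow_le_pow_left h1.le 2) 1
    have := Nat.mul_lt_mul_of_lt_of_le h1 h2 (by omega)
    omega
  have hObot : O ≠ ⊥ := by
    intro h
    rw [← hO, h, Subgroup.card_bot] at hcO
    omega
  rcases eq_or_lt_of_le hMO with h | h
  · have hOM : O ≤ M := h ▸ Subgroup.le_normalizer
    have hd := Nat.le_of_dvd Nat.card_pos (Subgroup.card_dvd_of_le hOM)
    rw [card_target_perm e] at hd
    rw [← hO] at hcO
    omega
  · exact normalizer_ne_top h4 hObot hOtop (hM.2 _ h)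

theorem perm_four_case (p : ℕ) [Fact p.Prime] [CharP F p] (hp2 : p ≠ 2) {n : ℕ}
    (hn : Fintype.card F = p ^ n) (hn0 : 0 < n) (h5 : 5 ≤ Fintype.card F)
    {M : Subgroup (Matrix.ProjectiveSpecialLinearGroup (Fin 2) F)} (hM : IsCoatom M)
    (e : M ≃* Equiv.Perm (Fin 4)) :
    (Fintype.card F = p ∧ (p % 8 = 1 ∨ p % 8 = 7)) ∨
      (∃ (F₀ : Type) (_ : Field F₀) (_ : Fintype F₀), Fintype.card F = Fintype.card F₀ ^ 2 ∧
        Nonempty (M ≃* Matrix.ProjGenLinGroup (Fin 2) F₀)) := by
  classical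
  have hp := (Fact.out : p.Prime)
  have hpodd : p % 2 = 1 := hp.eq_two_or_odd.resolve_left hp2
  have hqodd : Fintype.card F % 2 = 1 := by
    rw [hn, Nat.pow_mod, hpodd, one_pow]; rfl
  have h2F : (2 : F) ≠ 0 := two_ne_zero_of_odd hqodd
  have h16 := sq_mod_sixteen_of_perm_four e
  have hcM : Nat.card M = 24 := card_target_perm e
  obtain ⟨-, -, va, vb, vab, va1, vb1, vne⟩ := vA_vB
  obtain ⟨x, y, -, -, hxM, hyM, hx2, hy2, hxy, hx1, hy1, hne⟩ :=
    exists_four_points e vA vB va vb vab va1 vb1 vne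
  -- a square root of two
  have hroot : (p % 8 = 1 ∨ p % 8 = 7) → ∃ s : F, s ^ p = s ∧ s * s = 2 := by
    intro h
    obtain ⟨s, hs⟩ := (ZMod.exists_sq_eq_two_iff hp2).mpr h
    refine ⟨ZMod.castHom dvd_rfl F s, by rw [← map_pow, ZMod.pow_card], ?_⟩
    rw [← map_mul, ← hs, map_ofNat]
  by_cases h8 : p % 8 = 1 ∨ p % 8 = 7
  · obtain ⟨s, hsp, hs⟩ := hroot h8
    by_cases hn1 : n = 1
    · subst hn1
      exact Or.inl ⟨by rw [hn, pow_one], h8⟩
    · exfalso
      have htr : ∀ g : SL2, (QuotientGroup.mk g : PSL2) ∈ M → g 0 0 + g 1 1 ∈ fixField p 1 := by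
        intro g hg
        rcases trace_perm_four p e hg with h | h
        · exact h
        · have hmem : s ∈ fixField (F := F) p 1 := (mem_fixField p).mpr (by rw [pow_one]; exact hsp)
          rcases mul_self_eq_mul_self_iff.mp (show (g 0 0 + g 1 1) * (g 0 0 + g 1 1) = s * s by
            rw [hs, ← h, sq]) with h' | h' <;> rw [h']
          exacts [hmem, Subfield.neg_mem _ hmem]
      obtain ⟨hc, -, -⟩ := subfield_max_small p (by omega) hn (one_dvd n) (by omega) hM h2F hxM hyM hx2 hy2 hxy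
        hx1 hy1 hne htr
      rw [hcM, pow_one] at hc
      have h7 : 7 ≤ p := by have := hp.two_le; omega
      have h1 := Nat.pow_le_pow_left h7 2
      have := Nat.mul_le_mul h7 (show 48 ≤ p ^ 2 - 1 by omega)
      omega
  have hne8 : p % 8 = 3 ∨ p % 8 = 5 := by omega
  have hneven : Even n := by
    by_contra hodd
    rw [Nat.not_even_iff_odd] at hodd
    obtain ⟨j, rfl⟩ := hodd
    rw [hn, ← pow_mul, show (2 * j + 1) * 2 = 2 * (2 * j + 1) by ring, pow_mul, Nat.pow_mod] at h16
    have hp16 : p ^ 2 % 16 = 9 := by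
      rw [Nat.pow_mod]
      rcases (show p % 16 = 3 ∨ p % 16 = 5 ∨ p % 16 = 11 ∨ p % 16 = 13 by omega) with h | h | h | h <;> rw [h]
    rw [hp16, pow_succ, pow_mul, Nat.mul_mod, Nat.pow_mod] at h16
    norm_num at h16
  obtain ⟨l, hl⟩ := hneven
  have htr2 : ∀ g : SL2, (QuotientGroup.mk g : PSL2) ∈ M → g 0 0 + g 1 1 ∈ fixField p 2 := by
    intro g hg
    rcases trace_perm_four p e hg with h | h
    · exact fixField_mono p (one_dvd 2) h
    · exact mem_fix_two_of_sq p hp2 (h ▸ two_mem_fix p 1)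
  by_cases hn2 : n = 2
  · subst hn2
    right
    rcases Nat.lt_or_ge p 5 with hp5 | hp5
    · obtain rfl : p = 3 := by have := hp.two_le; omega
      obtain ⟨f⟩ := nonempty_pgl_three_equiv
      exact ⟨ZMod 3, inferInstance, inferInstance, by rw [hn, ZMod.card], ⟨e.trans f.symm⟩⟩
    · exfalso
      have hsq : IsSquare (2 : F) := (isSquare_two_of_sq_mod h16).2
      obtain ⟨s, hs⟩ := hsq
      refine perm_four_not_maximal_square p hp5 hn (fun r hr h => ?_) hs.symm hM e
      -- a root in the prime field would make `2` a square modulo `p`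
      refine (not_or.mpr ⟨by omega, by omega⟩ : ¬ (p % 8 = 1 ∨ p % 8 = 7)) ((ZMod.exists_sq_eq_two_iff hp2).mp ?_)
      obtain ⟨r₀, hr₀⟩ : ∃ r₀ : ZMod p, ZMod.castHom dvd_rfl F r₀ = r := by
        by_contra hcon
        push Not at hcon
        haveI : Fintype (fixField (F := F) p 1) := Fintype.ofFinite _
        have hc := card_fixField (F := F) p hn (one_dvd 2)
        rw [pow_one] at hc
        have hinj : Function.Injective (fun o : Option (ZMod p) => match o with
            | none => (⟨r, (mem_fixField p).mpr (by rw [pow_one]; exact hr)⟩ : fixField (F := F) p 1)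
            | some z => ⟨ZMod.castHom dvd_rfl F z, (mem_fixField p).mpr (by
                rw [pow_one, ← map_pow, ZMod.pow_card])⟩) := by
          rintro (_ | z) (_ | z') h
          · rfl
          · exact absurd (congrArg Subtype.val h).symm (hcon z')
          · exact absurd (congrArg Subtype.val h) (hcon z)
          · exact congrArg some ((ZMod.castHom dvd_rfl F).injective (congrArg Subtype.val h))
        have := Nat.card_le_card_of_injective _ hinj
        rw [hc, Nat.card_eq_fintype_card, Fintype.card_option, ZMod.card] at this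
        omega
      exact ⟨r₀, (ZMod.castHom dvd_rfl F).injective (by rw [map_mul, hr₀, h, map_ofNat])⟩
  · exfalso
    have h2n : 2 < n := by omega
    obtain ⟨hc, -, -⟩ := subfield_max_small p (by omega) hn ⟨l, by omega⟩ h2n hM h2F hxM hyM hx2 hy2 hxy
      hx1 hy1 hne htr2
    rw [hcM] at hc
    have h3 : 3 ≤ p := by have := hp.two_le; omega
    have h9 : 9 ≤ p ^ 2 := by have := Nat.pow_le_pow_left h3 2; omega
    have := Nat.pow_le_pow_left h9 2
    have := Nat.mul_le_mul h9 (show 80 ≤ (p ^ 2) ^ 2 - 1 by omega)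
    omega

end Cfsg.Lib.Dickson
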