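import Cfsg.Agent.Lib.Dickson.Maximal.FieldCase

/-!
# The subfield case of the classification of maximal subgroups
-/

set_option autoImplicit false
set_option linter.unusedSectionVars false

open Matrix
open scoped MatrixGroups

namespace Cfsg.Lib.Dickson

variable {F : Type*} [Field F] [Fintype F]

theorem pow_parity (p k n : ℕ) (hk : 1 ≤ k) (hn : 1 ≤ n) : p ^ k % 2 = p ^ n % 2 := by
  rw [Nat.pow_mod, Nat.pow_mod p n]
  rcases Nat.mod_two_eq_zero_or_one p with h | h <;> rw [h]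
  · rw [zero_pow (by omega), zero_pow (by omega)]
  · rw [one_pow, one_pow]

theorem exists_exponent (p : ℕ) [Fact p.Prime] {K : Type*} [Field K] [Fintype K] [CharP K p] {n m : ℕ}
    (hn : Fintype.card F = p ^ n) (hm : Fintype.card K ^ m = Fintype.card F) :
    ∃ k, Fintype.card K = p ^ k ∧ 0 < k ∧ n = k * m := by
  obtain ⟨k, -, hk⟩ := FiniteField.card K p
  exact ⟨k, hk, k.pos, Nat.pow_right_injective (Fact.out : p.Prime).two_le
    (by simp only; rw [pow_mul, ← hk, hm, hn])⟩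

/-- A maximal subgroup isomorphic to `PSL(2, q₀)` lies in odd prime degree. -/
theorem psl_field_max (p : ℕ) [Fact p.Prime] [CharP F p] (h4 : 4 ≤ Fintype.card F) {n k : ℕ}
    (hn : Fintype.card F = p ^ n) (hk : k ∣ n) (hlt : k < n)
    {M : Subgroup (Matrix.ProjectiveSpecialLinearGroup (Fin 2) F)} (hM : IsCoatom M)
    (hN : ¬ ∃ P : Sylow p (Matrix.ProjectiveSpecialLinearGroup (Fin 2) F),
      M ≤ Subgroup.normalizer ((P : Subgroup (Matrix.ProjectiveSpecialLinearGroup (Fin 2) F)) :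
        Set (Matrix.ProjectiveSpecialLinearGroup (Fin 2) F)))
    {K : Type*} [Field K] [Fintype K] [CharP K p] (hK : Fintype.card K = p ^ k)
    (e : M ≃* Matrix.ProjectiveSpecialLinearGroup (Fin 2) K) :
    (n / k).Prime ∧ (p ≠ 2 → Odd (n / k)) := by
  have hp := (Fact.out : p.Prime)
  have hk0 : 0 < k := Nat.pos_of_dvd_of_pos hk (by omega)
  have hpar : p ^ k % 2 = Fintype.card F % 2 := by rw [hn]; exact pow_parity p k n hk0 (by omega)
  have hpM : p ∣ Nat.card M := by
    have h := Cfsg.Lib.Linear.Two.card_PSL_two (F := K)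
    rw [← Nat.card_congr e.toEquiv, hK] at h
    have hdvd : p ∣ Nat.gcd 2 (p ^ k - 1) * Nat.card M := h ▸ (dvd_pow_self p hk0.ne').mul_right _
    rcases hp.dvd_mul.mp hdvd with h' | h'
    · exfalso
      have h1 : p ∣ p ^ k - 1 := h'.trans (Nat.gcd_dvd_right _ _)
      have h2 := Nat.dvd_sub (dvd_pow_self p hk0.ne') h1
      rw [show p ^ k - (p ^ k - 1) = 1 by have := Nat.one_le_pow k p hp.pos; omega] at h2
      exact hp.not_dvd_one h2
    · exact h'
  obtain ⟨U, hU⟩ := entries_of_transvections p (fixField p k) hpM hN fun g hg =>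
    trace_mem_of_iso_psl p hK hpar e hg
  exact (subfield_max p h4 hn hk hlt hM U hU).2

/-- A normal `2`-subgroup transported along an isomorphism. -/
theorem le_normalizer_of_iso_two [CharP F 2] {M : Subgroup (Matrix.ProjectiveSpecialLinearGroup (Fin 2) F)}
    {T : Type*} [Group T] (e : M ≃* T) (R₀ : Subgroup T) [R₀.Normal] (hne : R₀ ≠ ⊥) (h2 : ∀ a ∈ R₀, a * a = 1) :
    ∃ P : Sylow 2 (Matrix.ProjectiveSpecialLinearGroup (Fin 2) F),
      M ≤ Subgroup.normalizer ((P : Subgroup (Matrix.ProjectiveSpecialLinearGroup (Fin 2) F)) :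
        Set (Matrix.ProjectiveSpecialLinearGroup (Fin 2) F)) := by
  haveI := Fact.mk Nat.prime_two
  refine (le_normalizer_of_normal_pgroup 2 M (R₀.comap e.toMonoidHom) (fun y => ⟨1, ?_⟩) fun h => ?_).2
  · rw [pow_one, sq]
    refine Subtype.ext (e.injective ?_)
    show e ((y : M) * y) = e ((1 : R₀.comap e.toMonoidHom) : M)
    rw [map_mul, show e (y : M) * e (y : M) = 1 from h2 _ y.2, Subgroup.coe_one, map_one]
  · refine hne ?_
    rw [← Subgroup.map_comap_eq_self_of_surjective (f := e.toMonoidHom) e.surjective R₀, h, Subgroup.map_bot]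

/-- The four-group in `S₄`. -/
def fourFour : Subgroup (Equiv.Perm (Fin 4)) where
  carrier := {a | a * a = 1 ∧ Equiv.Perm.sign a = 1}
  one_mem' := ⟨one_mul 1, map_one _⟩
  mul_mem' := fun {a b} ha hb =>
    (show ∀ a b : Equiv.Perm (Fin 4), a * a = 1 ∧ Equiv.Perm.sign a = 1 → b * b = 1 ∧ Equiv.Perm.sign b = 1 →
      (a * b) * (a * b) = 1 ∧ Equiv.Perm.sign (a * b) = 1 by decide +kernel) a b ha hb
  inv_mem' := fun {a} ha =>
    (show ∀ a : Equiv.Perm (Fin 4), a * a = 1 ∧ Equiv.Perm.sign a = 1 →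
      a⁻¹ * a⁻¹ = 1 ∧ Equiv.Perm.sign a⁻¹ = 1 by decide +kernel) a ha

instance fourFour_normal : fourFour.Normal :=
  ⟨fun a ha g => ⟨by
    rw [show g * a * g⁻¹ * (g * a * g⁻¹) = g * (a * a) * g⁻¹ by group, ha.1, mul_one, mul_inv_cancel], by
    simp [ha.2]⟩⟩

theorem fourFour_ne_bot : fourFour ≠ ⊥ := by
  intro h
  have h1 : (Equiv.swap (0 : Fin 4) 1 * Equiv.swap 2 3) ∈ fourFour := ⟨by decide, by decide⟩
  rw [h, Subgroup.mem_bot] at h1
  exact absurd h1 (by decide)

theorem fourFour_sub_ne_bot : fourFour.comap (alternatingGroup (Fin 4)).subtype ≠ ⊥ := by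
  intro h
  have h1 : (⟨Equiv.swap (0 : Fin 4) 1 * Equiv.swap 2 3, Equiv.Perm.mem_alternatingGroup.mpr (by decide)⟩ :
      alternatingGroup (Fin 4)) ∈ fourFour.comap (alternatingGroup (Fin 4)).subtype := ⟨by decide, by decide⟩
  rw [h, Subgroup.mem_bot] at h1
  exact absurd (congrArg Subtype.val h1) (by decide)

end Cfsg.Lib.Dickson
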