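import Cfsg.Agent.Lib.Dickson.Maximal.Common
import Cfsg.Agent.S0803
import Cfsg.Agent.S0804

/-!
# `A₄`, `S₄` and `A₅` as maximal subgroups of `PSL(2, q)`, `q` odd
-/

set_option autoImplicit false
set_option linter.unusedSectionVars false

open Matrix
open scoped MatrixGroups

namespace Cfsg.Lib.Dickson

variable {F : Type*} [Field F] [Fintype F]

local notation "SL2" => Matrix.SpecialLinearGroup (Fin 2) F
local notation "PSL2" => Matrix.ProjectiveSpecialLinearGroup (Fin 2) F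

theorem sign_four_exponents : ∀ a : Equiv.Perm (Fin 4),
    (Equiv.Perm.sign a = 1 → a ^ 2 = 1 ∨ a ^ 3 = 1) ∧ a ^ 12 = 1 ∧ (a ^ 4 = 1 ∨ a ^ 3 = 1) := by
  decide +kernel

/-- The transposition products used to mark a four-group. -/
def vA : Equiv.Perm (Fin 4) := Equiv.swap 0 1 * Equiv.swap 2 3

/-- The transposition products used to mark a four-group. -/
def vB : Equiv.Perm (Fin 4) := Equiv.swap 0 2 * Equiv.swap 1 3

theorem vA_vB : vA ∈ fourFour ∧ vB ∈ fourFour ∧ vA * vA = 1 ∧ vB * vB = 1 ∧ vA * vB = vB * vA ∧ vA ≠ 1 ∧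
    vB ≠ 1 ∧ vA ≠ vB := by
  refine ⟨⟨by decide, by decide⟩, ⟨by decide, by decide⟩, ?_, ?_, ?_, ?_, ?_, ?_⟩ <;> decide

theorem fourFour_cases : ∀ a : Equiv.Perm (Fin 4), a * a = 1 → Equiv.Perm.sign a = 1 →
    a = 1 ∨ a = vA ∨ a = vB ∨ a = vA * vB := by decide +kernel

theorem card_fourFour : Nat.card fourFour = 4 := by
  have : Nat.card fourFour = Nat.card {a : Equiv.Perm (Fin 4) // a * a = 1 ∧ Equiv.Perm.sign a = 1} := rfl
  rw [this, Nat.card_eq_fintype_card]
  decide +kernel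

variable (p : ℕ) [Fact p.Prime] [CharP F p]

include p in
theorem two_mem_fix (k : ℕ) : (2 : F) ∈ fixField p k := by
  rw [← one_add_one_eq_two]; exact Subfield.add_mem _ (Subfield.one_mem _) (Subfield.one_mem _)

/-- The traces in a subgroup isomorphic to `A₄`. -/
theorem trace_exponent_two_three {g : SL2} (k : ℕ)
    (h : (QuotientGroup.mk g : PSL2) ^ 2 = 1 ∨ (QuotientGroup.mk g : PSL2) ^ 3 = 1) :
    g 0 0 + g 1 1 ∈ fixField p k := by
  rcases h with h | h
  · rcases trace_of_exponent (k := 1) h with ht | ht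
    · exact trace_mem_of_two p ht
    · simp [Cfsg.Lib.Spec.chCoef] at ht
      rw [ht]; exact Subfield.zero_mem _
  · rcases trace_of_exponent (k := 2) h with ht | ht
    · exact trace_mem_of_two p ht
    · simp [Cfsg.Lib.Spec.chCoef] at ht
      have hsq : (g 0 0 + g 1 1) * (g 0 0 + g 1 1) = 1 := by linear_combination ht
      rcases mul_self_eq_one_iff.mp hsq with h1 | h1 <;> rw [h1]
      exacts [Subfield.one_mem _, Subfield.neg_mem _ (Subfield.one_mem _)]

/-- A trace with square in the prime field lies in the field of degree two. -/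
theorem mem_fix_two_of_sq (hp2 : p ≠ 2) {t : F} (h : t ^ 2 ∈ fixField p 1) : t ∈ fixField p 2 := by
  have ho : Odd p := (Fact.out : p.Prime).odd_of_ne_two hp2
  rw [mem_fixField] at h ⊢
  rw [pow_one] at h
  rw [← pow_mul, mul_comm, pow_mul] at h
  rw [sq p, pow_mul]
  rcases sq_eq_sq_iff_eq_or_eq_neg.mp h with h' | h' <;> rw [h']
  · exact h'
  · rw [ho.neg_pow, h', neg_neg]

/-- The field of four-group coordinates contains no more than a conjugate of `PSL(2, q₀)`. -/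
theorem subfield_max_small (h4 : 4 ≤ Fintype.card F) {n k : ℕ} (hn : Fintype.card F = p ^ n) (hk : k ∣ n)
    (hlt : k < n) {M : Subgroup (Matrix.ProjectiveSpecialLinearGroup (Fin 2) F)} (hM : IsCoatom M)
    (h2 : (2 : F) ≠ 0) {x y : Matrix.ProjectiveSpecialLinearGroup (Fin 2) F} (hx : x ∈ M) (hy : y ∈ M)
    (hx2 : x ^ 2 = 1) (hy2 : y ^ 2 = 1) (hxy : Commute x y) (hx1 : x ≠ 1) (hy1 : y ≠ 1) (hne : x ≠ y)
    (htr : ∀ g : SL2, (QuotientGroup.mk g : PSL2) ∈ M → g 0 0 + g 1 1 ∈ fixField p k) :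
    2 * Nat.card M = p ^ k * ((p ^ k) ^ 2 - 1) ∧ (n / k).Prime ∧ (p ≠ 2 → Odd (n / k)) := by
  obtain ⟨U, hU, -⟩ := entries_of_four_group (fixField p k) h2 hx hy hx2 hy2 hxy hx1 hy1 hne htr
  have h := subfield_max p h4 hn hk hlt hM U hU
  rwa [Nat.gcd_eq_left (show 2 ∣ Fintype.card F - 1 by
    rcases Nat.mod_two_eq_zero_or_one (Fintype.card F) with he | ho
    · exfalso
      obtain ⟨q, hq, hqc, m, -, hm⟩ := exists_char (F := F)
      have h2d : 2 ∣ q ^ m := hm ▸ Nat.dvd_of_mod_eq_zero he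
      obtain rfl := (Nat.prime_dvd_prime_iff_eq Nat.prime_two hq).mp (Nat.prime_two.dvd_of_dvd_pow h2d)
      exact h2 (by exact_mod_cast CharP.cast_eq_zero F 2)
    · omega)] at h

/-- The four-group of a subgroup isomorphic to a subgroup of `S₄` containing it. -/
theorem exists_four_points {M : Subgroup (Matrix.ProjectiveSpecialLinearGroup (Fin 2) F)} {T : Type*} [Group T]
    (e : M ≃* T) (a b : T) (ha : a * a = 1) (hb : b * b = 1) (hab : a * b = b * a) (ha1 : a ≠ 1) (hb1 : b ≠ 1)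
    (hne : a ≠ b) : ∃ x y : PSL2, x = ((e.symm a : M) : PSL2) ∧ y = ((e.symm b : M) : PSL2) ∧ x ∈ M ∧ y ∈ M ∧
      x ^ 2 = 1 ∧ y ^ 2 = 1 ∧ Commute x y ∧ x ≠ 1 ∧ y ≠ 1 ∧ x ≠ y := by
  refine ⟨_, _, rfl, rfl, (e.symm a).2, (e.symm b).2, ?_, ?_, ?_, ?_, ?_, ?_⟩
  · rw [← Subgroup.coe_pow, ← map_pow, sq, ha, map_one]; rfl
  · rw [← Subgroup.coe_pow, ← map_pow, sq, hb, map_one]; rfl
  · show _ * _ = _ * _
    rw [← Subgroup.coe_mul, ← Subgroup.coe_mul, ← map_mul, ← map_mul, hab]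
  · exact fun h => ha1 (e.symm.injective ((Subtype.ext h).trans (map_one _).symm))
  · exact fun h => hb1 (e.symm.injective ((Subtype.ext h).trans (map_one _).symm))
  · exact fun h => hne (e.symm.injective (Subtype.ext h))

theorem back_pow {M : Subgroup (Matrix.ProjectiveSpecialLinearGroup (Fin 2) F)} {T : Type*} [Group T]
    (e : M ≃* T) {g : SL2} (hg : (QuotientGroup.mk g : PSL2) ∈ M) {m : ℕ} (h : e ⟨_, hg⟩ ^ m = 1) :
    (QuotientGroup.mk g : PSL2) ^ m = 1 := by
  rw [← map_pow, ← map_one e] at h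
  exact congrArg Subtype.val (e.injective h)

/-- The odd `S₄`-element `(1 + J) / √2` on the standard four-group. -/
theorem rot_conj {a b s : F} (hs : s * s = 2) (h2 : (2 : F) ≠ 0) :
    (!![s / 2, -(s / 2); s / 2, s / 2] : Matrix (Fin 2) (Fin 2) F) * !![0, -1; 1, 0] =
        !![0, -1; 1, 0] * !![s / 2, -(s / 2); s / 2, s / 2] ∧
      (!![s / 2, -(s / 2); s / 2, s / 2] : Matrix (Fin 2) (Fin 2) F) * !![a, b; b, -a] =
        (!![0, -1; 1, 0] * !![a, b; b, -a]) * !![s / 2, -(s / 2); s / 2, s / 2] := by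
  constructor
  · rw [Matrix.mul_fin_two, Matrix.mul_fin_two]; simp
  · rw [Matrix.mul_fin_two, Matrix.mul_fin_two, Matrix.mul_fin_two]
    ext i j
    fin_cases i <;> fin_cases j <;> simp <;> ring

end Cfsg.Lib.Dickson
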