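import Cfsg.Agent.Lib.Dickson.Maximal.Basic
import Cfsg.Agent.Lib.Dickson.Existence

/-!
# Maximal subgroups of `PSL(2, q)` contained in a conjugate of `PSL(2, q₀)`
-/

set_option autoImplicit false
set_option linter.unusedSectionVars false

open Matrix
open scoped MatrixGroups

namespace Cfsg.Lib.Dickson

variable {F : Type*} [Field F] [Fintype F]

local notation "SL2" => Matrix.SpecialLinearGroup (Fin 2) F
local notation "PSL2" => Matrix.ProjectiveSpecialLinearGroup (Fin 2) F

section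
variable (p : ℕ) [Fact p.Prime] [CharP F p]

/-- The elements fixed by the `k`-th power of the Frobenius map. -/
noncomputable def fixField (k : ℕ) : Subfield F :=
  (iterateFrobenius F p k).eqLocusField (RingHom.id F)

theorem mem_fixField {k : ℕ} {x : F} : x ∈ fixField p k ↔ x ^ p ^ k = x := Iff.rfl

theorem fixField_mono {k k' : ℕ} (h : k ∣ k') {x : F} (hx : x ∈ fixField p k) : x ∈ fixField p k' := by
  obtain ⟨j, rfl⟩ := h
  rw [mem_fixField] at hx ⊢
  induction j with
  | zero => simp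
  | succ j ih => rw [Nat.mul_succ, pow_add, pow_mul, ih, hx]

theorem card_fixField {k n : ℕ} (hn : Fintype.card F = p ^ n) (hk : k ∣ n) :
    Nat.card (fixField (F := F) p k) = p ^ k := by
  classical
  have hp := (Fact.out : p.Prime)
  have hn0 : n ≠ 0 := by
    rintro rfl
    have := two_le_card (F := F)
    rw [hn, pow_zero] at this
    omega
  have hk0 : k ≠ 0 := fun h => hn0 (Nat.eq_zero_of_zero_dvd (h ▸ hk))
  obtain ⟨j, hj⟩ := hk
  haveI : Fintype (GaloisField p k) := Fintype.ofFinite _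
  have hcard : Fintype.card (GaloisField p k) = p ^ k := by
    rw [← Nat.card_eq_fintype_card, GaloisField.card p k hk0]
  obtain ⟨f⟩ : Nonempty (GaloisField p k →+* F) :=
    nonempty_ringHom (m := j) (by rw [hcard, ← pow_mul, ← hj, hn])
  apply le_antisymm
  · -- the roots of `X ^ p ^ k - X`
    haveI : Fintype (fixField (F := F) p k) := Fintype.ofFinite _
    rw [Nat.card_eq_fintype_card]
    set P : Polynomial F := Polynomial.X ^ p ^ k - Polynomial.X
    have hdeg : P.natDegree = p ^ k := FiniteField.X_pow_card_pow_sub_X_natDegree_eq F hk0 hp.one_lt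
    have hP : P ≠ 0 := fun h => by
      rw [h, Polynomial.natDegree_zero] at hdeg
      exact (pow_pos hp.pos k).ne hdeg
    have hsub : (Finset.univ.map ⟨((↑) : fixField (F := F) p k → F), Subtype.val_injective⟩) ⊆ P.roots.toFinset := by
      intro x hx
      obtain ⟨y, -, rfl⟩ := Finset.mem_map.mp hx
      rw [Multiset.mem_toFinset, Polynomial.mem_roots hP]
      simp [P, sub_eq_zero, (mem_fixField p).mp y.2]
    have h := (Finset.card_le_card hsub).trans (P.roots.toFinset_card_le.trans P.card_roots')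
    rwa [Finset.card_map, Finset.card_univ, hdeg] at h
  · rw [← GaloisField.card p k hk0]
    exact Nat.card_le_card_of_injective
      (fun a => (⟨f a, (mem_fixField p).mpr (by rw [← map_pow, ← hcard, FiniteField.pow_card])⟩ :
        fixField (F := F) p k))
      (fun a b h => f.injective (congrArg Subtype.val h))

end

/-- Conjugation by an element of `GL(2)`. -/
noncomputable def conjSL (U : GL (Fin 2) F) : SL2 →* SL2 where
  toFun g := ⟨(U : Matrix (Fin 2) (Fin 2) F) * g * ((U⁻¹ : GL (Fin 2) F) : Matrix (Fin 2) (Fin 2) F), by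
    rw [Matrix.det_units_conj, g.2]⟩
  map_one' := Subtype.ext (by
    show (U : Matrix (Fin 2) (Fin 2) F) * 1 * ((U⁻¹ : GL (Fin 2) F) : Matrix (Fin 2) (Fin 2) F) = 1
    rw [mul_one, Units.mul_inv])
  map_mul' a b := Subtype.ext (by
    show (U : Matrix (Fin 2) (Fin 2) F) * ((a : Matrix (Fin 2) (Fin 2) F) * b) *
        ((U⁻¹ : GL (Fin 2) F) : Matrix (Fin 2) (Fin 2) F) =
      ((U : Matrix (Fin 2) (Fin 2) F) * a * ((U⁻¹ : GL (Fin 2) F) : Matrix (Fin 2) (Fin 2) F)) *
        ((U : Matrix (Fin 2) (Fin 2) F) * b * ((U⁻¹ : GL (Fin 2) F) : Matrix (Fin 2) (Fin 2) F))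
    simp only [Matrix.mul_assoc]
    rw [← Matrix.mul_assoc ((U⁻¹ : GL (Fin 2) F) : Matrix (Fin 2) (Fin 2) F), Units.inv_mul, one_mul])

theorem conjSL_coe (U : GL (Fin 2) F) (g : SL2) : (conjSL U g : Matrix (Fin 2) (Fin 2) F) =
    (U : Matrix (Fin 2) (Fin 2) F) * g * ((U⁻¹ : GL (Fin 2) F) : Matrix (Fin 2) (Fin 2) F) := rfl

theorem conjSL_mul (U V : GL (Fin 2) F) (g : SL2) : conjSL (U * V) g = conjSL U (conjSL V g) := by
  apply Subtype.ext
  show _ = (U : Matrix (Fin 2) (Fin 2) F) * _ * _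
  rw [conjSL_coe, conjSL_coe, _root_.mul_inv_rev, Units.val_mul, Units.val_mul]
  simp [Matrix.mul_assoc]

theorem conjSL_inv_apply (U : GL (Fin 2) F) (g : SL2) : conjSL U (conjSL U⁻¹ g) = g := by
  rw [← conjSL_mul, mul_inv_cancel]
  exact Subtype.ext (by simp [conjSL_coe])

/-- The preimage of the matrices with entries in `L`. -/
noncomputable def fieldSL (L : Subfield F) (U : GL (Fin 2) F) : Subgroup SL2 :=
  ((Matrix.SpecialLinearGroup.map (n := Fin 2) L.subtype).range).comap (conjSL U)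

theorem mem_fieldSL {L : Subfield F} {U : GL (Fin 2) F} {g : SL2} :
    g ∈ fieldSL L U ↔ ∀ i j, (conjSL U g : Matrix (Fin 2) (Fin 2) F) i j ∈ L := by
  rw [fieldSL, Subgroup.mem_comap]
  constructor
  · rintro ⟨a, ha⟩ i j
    rw [← ha]
    exact ((a : Matrix (Fin 2) (Fin 2) L) i j).2
  · intro h
    refine ⟨⟨Matrix.of fun i j => ⟨_, h i j⟩, Subtype.ext ?_⟩, Subtype.ext rfl⟩
    show L.subtype (Matrix.det (Matrix.of fun a b => (⟨_, h a b⟩ : L))) = L.subtype 1
    rw [RingHom.map_det, map_one]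
    exact (conjSL U g).2

theorem center_le_fieldSL (L : Subfield F) (U : GL (Fin 2) F) : Subgroup.center SL2 ≤ fieldSL L U := by
  intro z hz
  obtain ⟨h01, h10, h11⟩ := mem_center_sl hz
  have hz' : (z : Matrix (Fin 2) (Fin 2) F) = z 0 0 • (1 : Matrix (Fin 2) (Fin 2) F) := by
    ext i j; fin_cases i <;> fin_cases j <;> simp [h01, h10, h11]
  have hd := z.2
  rw [Matrix.det_fin_two, h01, h10, h11] at hd
  have hc : z 0 0 = 1 ∨ z 0 0 = -1 := mul_self_eq_one_iff.mp (by linear_combination hd)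
  have hmem : z 0 0 ∈ L := by
    rcases hc with h | h <;> rw [h]
    · exact L.one_mem
    · exact L.neg_mem L.one_mem
  rw [mem_fieldSL]
  intro i j
  rw [conjSL_coe, hz', Matrix.mul_smul, Matrix.smul_mul, mul_one, Units.mul_inv]
  fin_cases i <;> fin_cases j <;> simp [hmem, L.zero_mem]

theorem card_fieldSL (L : Subfield F) (U : GL (Fin 2) F) :
    Nat.card (fieldSL L U) = Nat.card L * (Nat.card L ^ 2 - 1) := by
  haveI : Fintype L := Fintype.ofFinite _
  rw [Nat.card_eq_fintype_card (α := L), ← Cfsg.Lib.Linear.Two.card_SL_two (F := L)]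
  refine (Nat.card_congr (Equiv.ofBijective
    (fun a : Matrix.SpecialLinearGroup (Fin 2) L => (⟨conjSL U⁻¹ (Matrix.SpecialLinearGroup.map L.subtype a),
      by rw [fieldSL, Subgroup.mem_comap, conjSL_inv_apply]; exact ⟨a, rfl⟩⟩ : fieldSL L U)) ⟨?_, ?_⟩)).symm
  · intro a b h
    have := congrArg (conjSL U) (congrArg Subtype.val h)
    rw [conjSL_inv_apply, conjSL_inv_apply] at this
    exact Subtype.ext (Matrix.ext fun i j => Subtype.ext (congrFun (congrFun (congrArg Subtype.val this) i) j))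
  · rintro ⟨g, hg⟩
    obtain ⟨a, ha⟩ := hg
    refine ⟨a, Subtype.ext ?_⟩
    show conjSL U⁻¹ _ = g
    rw [ha, ← conjSL_mul, inv_mul_cancel]
    exact Subtype.ext (by simp [conjSL_coe])

/-- The image in `PSL(2)`. -/
noncomputable def fieldPSL (L : Subfield F) (U : GL (Fin 2) F) : Subgroup PSL2 :=
  (fieldSL L U).map (QuotientGroup.mk' (Subgroup.center SL2))

theorem mk_mem_fieldPSL {L : Subfield F} {U : GL (Fin 2) F} {g : SL2} :
    (QuotientGroup.mk g : PSL2) ∈ fieldPSL L U ↔ g ∈ fieldSL L U := by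
  have h : (fieldPSL L U).comap (QuotientGroup.mk' (Subgroup.center SL2)) = fieldSL L U :=
    Subgroup.comap_map_eq_self (by rw [QuotientGroup.ker_mk']; exact center_le_fieldSL L U)
  rw [← h]
  rfl

theorem card_comap_mk (K : Subgroup PSL2) :
    Nat.card (K.comap (QuotientGroup.mk' (Subgroup.center SL2))) =
      Nat.gcd 2 (Fintype.card F - 1) * Nat.card K := by
  haveI : Finite SL2 := inferInstance
  have h1 := Subgroup.card_mul_index (K.comap (QuotientGroup.mk' (Subgroup.center SL2)))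
  have h2 := Subgroup.card_mul_index K
  have h3 := Cfsg.Lib.Linear.card_SL_eq_gcd_mul_card_PSL (ι := Fin 2) (F := F)
  rw [Subgroup.index_comap_of_surjective _ (QuotientGroup.mk'_surjective _), h3, Fintype.card_fin, ← h2,
    ← mul_assoc] at h1
  exact Nat.eq_of_mul_eq_mul_right (Nat.pos_of_ne_zero Subgroup.index_ne_zero_of_finite) h1

theorem card_fieldPSL (L : Subfield F) (U : GL (Fin 2) F) :
    Nat.gcd 2 (Fintype.card F - 1) * Nat.card (fieldPSL L U) = Nat.card L * (Nat.card L ^ 2 - 1) := by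
  rw [← card_comap_mk, ← card_fieldSL L U]
  refine congrArg (fun K : Subgroup SL2 => Nat.card K) ?_
  exact Subgroup.ext fun g => mk_mem_fieldPSL

/-- A maximal subgroup inside a conjugate of a subfield group is that group, of odd prime degree. -/
theorem subfield_max (p : ℕ) [Fact p.Prime] [CharP F p] (h4 : 4 ≤ Fintype.card F) {n k : ℕ}
    (hn : Fintype.card F = p ^ n) (hk : k ∣ n) (hlt : k < n) {M : Subgroup (Matrix.ProjectiveSpecialLinearGroup (Fin 2) F)}
    (hM : IsCoatom M) (U : GL (Fin 2) F)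
    (hU : ∀ g : SL2, (QuotientGroup.mk g : PSL2) ∈ M →
      ∀ i j, (conjSL U g : Matrix (Fin 2) (Fin 2) F) i j ∈ fixField p k) :
    Nat.gcd 2 (Fintype.card F - 1) * Nat.card M = p ^ k * ((p ^ k) ^ 2 - 1) ∧
      (n / k).Prime ∧ (p ≠ 2 → Odd (n / k)) := by
  classical
  have hp := (Fact.out : p.Prime)
  have hG := Cfsg.Lib.Linear.Two.card_PSL_two (F := F)
  have hk0 : 0 < k := Nat.pos_of_dvd_of_pos hk (by omega)
  have hmono : ∀ a b : ℕ, a < b → p ^ a * ((p ^ a) ^ 2 - 1) < p ^ b * ((p ^ b) ^ 2 - 1) := by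
    intro a b hab
    have h1 : p ^ a < p ^ b := Nat.pow_lt_pow_right hp.one_lt hab
    have h2 : 1 ≤ p ^ a := Nat.one_le_pow _ _ hp.pos
    have h3 : (p ^ a) ^ 2 < (p ^ b) ^ 2 := Nat.pow_lt_pow_left h1 two_ne_zero
    have h4 : 1 ≤ (p ^ a) ^ 2 := Nat.one_le_pow _ _ h2
    exact Nat.mul_lt_mul_of_le_of_lt h1.le (by omega) (by omega)
  have hne : ∀ j, j ∣ n → j < n → fieldPSL (fixField p j) U ≠ ⊤ := by
    intro j hj hjn h
    have hc := card_fieldPSL (fixField (F := F) p j) U
    rw [h, Subgroup.card_top, card_fixField p hn hj] at hc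
    rw [hc, hn] at hG
    exact (hmono j n hjn).ne hG
  have heq : ∀ j, k ∣ j → j ∣ n → j < n → M = fieldPSL (fixField p j) U := by
    intro j hkj hj hjn
    have hle : M ≤ fieldPSL (fixField p j) U := by
      intro x hx
      obtain ⟨g, rfl⟩ := QuotientGroup.mk_surjective x
      exact mk_mem_fieldPSL.mpr (mem_fieldSL.mpr fun a b => fixField_mono p hkj (hU g hx a b))
    rcases eq_or_lt_of_le hle with h | h
    · exact h
    · exact absurd (hM.2 _ h) (hne j hj hjn)
  have hcard := card_fieldPSL (fixField (F := F) p k) U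
  rw [← heq k dvd_rfl hk hlt, card_fixField p hn hk] at hcard
  have hprime : (n / k).Prime := by
    obtain ⟨m, hm⟩ := hk
    have hm1 : m ≠ 1 := by rintro rfl; omega
    rw [hm, Nat.mul_div_cancel_left _ hk0]
    obtain ⟨a, ha, c, hc⟩ := Nat.exists_prime_and_dvd hm1
    by_contra hnp
    have hc1 : 1 < c := by
      rcases (show c = 0 ∨ c = 1 ∨ 1 < c by omega) with h | h | h
      · rw [h, mul_zero] at hc; subst hc; omega
      · rw [h, mul_one] at hc; exact absurd (hc ▸ ha) hnp
      · exact h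
    have hka : k * a < n := by
      rw [hm, hc]
      exact Nat.mul_lt_mul_of_pos_left (lt_mul_of_one_lt_right ha.pos hc1) hk0
    have hkan : k * a ∣ n := ⟨c, by rw [hm, hc, mul_assoc]⟩
    have h := card_fieldPSL (fixField (F := F) p (k * a)) U
    rw [← heq (k * a) (dvd_mul_right _ _) hkan hka, card_fixField p hn hkan, hcard] at h
    exact (hmono k (k * a) (lt_mul_of_one_lt_right hk0 ha.one_lt)).ne h
  refine ⟨hcard, hprime, fun hp2 => ?_⟩
  rcases hprime.eq_two_or_odd' with h2 | h2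
  swap
  · exact h2
  exfalso
  -- an element of the normaliser outside
  set L := fixField (F := F) p k
  have hL : Nat.card L = p ^ k := card_fixField p hn hk
  haveI : Fintype L := Fintype.ofFinite _
  have hpodd : p % 2 = 1 := hp.eq_two_or_odd.resolve_left hp2
  obtain ⟨ν, hν⟩ := FiniteField.exists_nonsquare (F := L) (by
    rw [ringChar.eq L p]; exact hp2)
  have hν0 : (ν : F) ≠ 0 := fun h => hν ⟨0, by rw [mul_zero]; exact Subtype.ext h⟩
  obtain ⟨lam, hlam⟩ : IsSquare (ν : F) := by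
    rw [FiniteField.isSquare_iff (by rw [ringChar.eq F p]; exact hp2) hν0]
    have hn2 : n = 2 * k := by
      have := Nat.div_mul_cancel hk
      rw [h2] at this
      exact this.symm
    have hν1 : (ν : F) ^ (p ^ k - 1) = 1 := by
      have := congrArg Subtype.val (FiniteField.pow_card_sub_one_eq_one ν (fun h => hν0 (by rw [h]; rfl)))
      rw [← Nat.card_eq_fintype_card, hL] at this
      simpa using this
    have hdiv : p ^ k - 1 ∣ Fintype.card F / 2 := by
      have hodd : p ^ k % 2 = 1 := by rw [Nat.pow_mod, hpodd, one_pow]; rfl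
      obtain ⟨c, hc⟩ : ∃ c, p ^ k = 2 * c + 1 := ⟨p ^ k / 2, by omega⟩
      refine ⟨c + 1, ?_⟩
      rw [hn, hn2, two_mul, pow_add, hc, Nat.add_sub_cancel,
        show (2 * c + 1) * (2 * c + 1) = 2 * (2 * c * (c + 1)) + 1 by ring]
      omega
    obtain ⟨c, hc⟩ := hdiv
    rw [hc, pow_mul, hν1, one_pow]
  have hlamL : lam ∉ L := fun h => hν ⟨⟨lam, h⟩, Subtype.ext hlam⟩
  have hlam0 : lam ≠ 0 := fun h => hν0 (by rw [hlam, h, mul_zero])
  let D : SL2 := ⟨!![lam, 0; 0, lam⁻¹], by rw [Matrix.det_fin_two_of]; simp [hlam0]⟩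
  let δ : SL2 := conjSL U⁻¹ D
  have hδU : conjSL U δ = D := conjSL_inv_apply U D
  have hD' : (D⁻¹ : SL2) = ⟨!![lam⁻¹, 0; 0, lam], by rw [Matrix.det_fin_two_of]; simp [hlam0]⟩ := by
    refine inv_eq_of_mul_eq_one_right (Subtype.ext ?_)
    show (!![lam, 0; 0, lam⁻¹] : Matrix (Fin 2) (Fin 2) F) * !![lam⁻¹, 0; 0, lam] = 1
    rw [Matrix.mul_fin_two, Matrix.one_fin_two]
    simp [hlam0]
  have hnormD : ∀ g, g ∈ fieldSL L U → δ * g * δ⁻¹ ∈ fieldSL L U := by
    intro g hg
    rw [mem_fieldSL] at hg ⊢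
    intro i j
    rw [map_mul, map_mul, map_inv, hδU, hD']
    show ((!![lam, 0; 0, lam⁻¹] : Matrix (Fin 2) (Fin 2) F) * (conjSL U g : Matrix (Fin 2) (Fin 2) F) *
      !![lam⁻¹, 0; 0, lam]) i j ∈ L
    have hν' : lam * lam ∈ L := hlam ▸ ν.2
    rw [Matrix.eta_fin_two (conjSL U g : Matrix (Fin 2) (Fin 2) F), Matrix.mul_fin_two, Matrix.mul_fin_two]
    fin_cases i <;> fin_cases j <;> simp only [Matrix.of_apply, Matrix.cons_val', Matrix.cons_val_zero,
      Matrix.cons_val_one, Matrix.cons_val_fin_one, Fin.zero_eta, Fin.mk_one]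
    · convert hg 0 0 using 1; field_simp; ring
    · convert L.mul_mem hν' (hg 0 1) using 1; field_simp; ring
    · convert L.mul_mem (L.inv_mem hν') (hg 1 0) using 1; field_simp; ring
    · convert hg 1 1 using 1; field_simp; ring
  have hδnot : (QuotientGroup.mk δ : PSL2) ∉ M := by
    rw [heq k dvd_rfl hk hlt]
    intro h
    have := mem_fieldSL.mp (mk_mem_fieldPSL.mp h) 0 0
    rw [hδU] at this
    exact hlamL (by simpa [D] using this)
  have hMne : M ≠ ⊥ := by
    intro h
    rw [h, Subgroup.card_bot] at hcard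
    have h8 : 8 ≤ (p ^ k) ^ 2 - 1 := by
      have h3 : 3 ≤ p := by have := hp.two_le; omega
      have := Nat.pow_le_pow_left (h3.trans (Nat.le_self_pow hk0.ne' p)) 2
      omega
    have := Nat.mul_le_mul (Nat.one_le_pow k p hp.pos) h8
    have hg2 : Nat.gcd 2 (Fintype.card F - 1) ≤ 2 := Nat.le_of_dvd two_pos (Nat.gcd_dvd_left _ _)
    omega
  have hconj : ∀ y ∈ M, (QuotientGroup.mk δ : PSL2) * y * (QuotientGroup.mk δ : PSL2)⁻¹ ∈ M := by
    intro y hy
    rw [heq k dvd_rfl hk hlt] at hy ⊢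
    obtain ⟨g, rfl⟩ := QuotientGroup.mk_surjective y
    rw [← QuotientGroup.mk_inv, ← QuotientGroup.mk_mul, ← QuotientGroup.mk_mul, mk_mem_fieldPSL]
    exact hnormD g (mk_mem_fieldPSL.mp hy)
  have hδN : (QuotientGroup.mk δ : PSL2) ∈ Subgroup.normalizer (M : Set PSL2) := by
    haveI : Finite M := inferInstance
    have hmap : M.map (MulAut.conj (QuotientGroup.mk δ : PSL2)).toMonoidHom = M := by
      refine Subgroup.eq_of_le_of_card_ge ?_ (le_of_eq ?_)
      · rintro _ ⟨y, hy, rfl⟩; exact hconj y hy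
      · exact Nat.card_congr (M.equivMapOfInjective _ (MulAut.conj _).injective).toEquiv
    rw [Subgroup.mem_normalizer_iff]
    intro y
    refine ⟨hconj y, fun hy => ?_⟩
    rw [← hmap] at hy
    obtain ⟨z, hz, hzy⟩ := hy
    rwa [show z = y from (MulAut.conj (QuotientGroup.mk δ : PSL2)).injective hzy] at hz
  have hlt' : M < Subgroup.normalizer (M : Set PSL2) := lt_of_le_of_ne Subgroup.le_normalizer fun h => hδnot (h ▸ hδN)
  exact normalizer_ne_top h4 hMne hM.1 (hM.2 _ hlt')

end Cfsg.Lib.Dickson
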