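import Cfsg.Agent.Lib.Dickson.Centralizer
import Cfsg.Agent.Lib.Dickson.Solvable

/-!
# Maximal subgroups of `PSL(2, q)`: cyclic, dihedral and parabolic cases
-/

set_option autoImplicit false
set_option linter.unusedSectionVars false

open Matrix
open scoped MatrixGroups

namespace Cfsg.Lib.Dickson

variable {F : Type*} [Field F] [Fintype F]

local notation "PSL2" => Matrix.ProjectiveSpecialLinearGroup (Fin 2) F

variable {M : Subgroup (Matrix.ProjectiveSpecialLinearGroup (Fin 2) F)}

theorem isSimpleGroup_psl_two (h4 : 4 ≤ Fintype.card F) : IsSimpleGroup PSL2 :=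
  Cfsg.Lib.Linear.PSL_simple 2 le_rfl fun _ => by rw [Nat.card_eq_fintype_card]; exact h4

/-- A normalised subgroup is nontrivial and proper, so its normaliser is proper. -/
theorem normalizer_ne_top (h4 : 4 ≤ Fintype.card F) {K : Subgroup PSL2} (h1 : K ≠ ⊥) (h2 : K ≠ ⊤) :
    Subgroup.normalizer (K : Set PSL2) ≠ ⊤ := by
  intro h
  haveI := isSimpleGroup_psl_two h4
  haveI : K.Normal := Subgroup.normalizer_eq_top_iff.mp h
  rcases IsSimpleGroup.eq_bot_or_eq_top_of_normal K inferInstance with h' | h'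
  · exact h1 h'
  · exact h2 h'

theorem four_dvd_card_psl_two (h4 : 4 ≤ Fintype.card F) : 4 ∣ Nat.card PSL2 := by
  have hG := Cfsg.Lib.Linear.Two.card_PSL_two (F := F)
  rcases Nat.mod_two_eq_zero_or_one (Fintype.card F) with h | h
  · obtain ⟨p, hpp, hp, n, hn0, hn⟩ := exists_char (F := F)
    obtain rfl : p = 2 := by
      have h2 : 2 ∣ p ^ n := hn ▸ Nat.dvd_of_mod_eq_zero h
      exact ((Nat.prime_dvd_prime_iff_eq Nat.prime_two hpp).mp (Nat.prime_two.dvd_of_dvd_pow h2)).symm
    have hd : Nat.gcd 2 (Fintype.card F - 1) = 1 := by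
      rw [Nat.gcd_rec, show (Fintype.card F - 1) % 2 = 1 by omega]; rfl
    rw [hd, one_mul] at hG
    rw [hG]
    refine Dvd.dvd.mul_right ?_ _
    rw [hn] at h4 ⊢
    rcases (show n = 1 ∨ 2 ≤ n by omega) with rfl | hn2
    · norm_num at h4
    · exact (Nat.pow_dvd_pow 2 hn2)
  · rw [Nat.gcd_eq_left (show 2 ∣ Fintype.card F - 1 by omega)] at hG
    have h8 : 8 ∣ Fintype.card F ^ 2 - 1 := by
      obtain ⟨j, hj⟩ : ∃ j, Fintype.card F = 2 * j + 1 := ⟨Fintype.card F / 2, by omega⟩
      rw [hj, show (2 * j + 1) ^ 2 = 4 * (j * (j + 1)) + 1 by ring, Nat.add_sub_cancel]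
      exact Nat.mul_dvd_mul_left 4 (Nat.even_mul_succ_self j).two_dvd
    have : 2 * 4 ∣ 2 * Nat.card PSL2 := hG ▸ h8.mul_left _
    exact Nat.dvd_of_mul_dvd_mul_left two_pos this

theorem not_card_dvd_four (h4 : 4 ≤ Fintype.card F) (hM : IsCoatom M) : ¬ Nat.card M ∣ 4 := by
  intro hd
  haveI := Fact.mk Nat.prime_two
  haveI := isSimpleGroup_psl_two h4
  have hns := not_isSolvable_psl (K := F) h4
  have hp : IsPGroup 2 M := by
    obtain ⟨i, -, hi⟩ := (Nat.dvd_prime_pow Nat.prime_two).mp (show Nat.card M ∣ 2 ^ 2 from hd)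
    exact IsPGroup.of_card hi
  obtain ⟨S, hS⟩ := hp.exists_le_sylow
  have hStop : (S : Subgroup PSL2) ≠ ⊤ := by
    intro h
    have hG : IsPGroup 2 PSL2 := (h ▸ S.2 : IsPGroup 2 (⊤ : Subgroup PSL2)).of_equiv Subgroup.topEquiv
    haveI := hG.isNilpotent
    exact hns inferInstance
  have hSM : (S : Subgroup PSL2) = M := by
    rcases eq_or_lt_of_le hS with h | h
    · exact h.symm
    · exact absurd (hM.2 _ h) hStop
  have hdiv : 4 ∣ Nat.card M := by
    have h1 : Nat.Coprime 4 (S : Subgroup PSL2).index :=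
      (Nat.Coprime.pow_left 2 ((Nat.Prime.coprime_iff_not_dvd Nat.prime_two).mpr S.not_dvd_index) :
        Nat.Coprime (2 ^ 2) _)
    have h2 := four_dvd_card_psl_two h4
    rw [← Subgroup.card_mul_index (S : Subgroup PSL2)] at h2
    exact hSM ▸ h1.dvd_of_dvd_mul_right h2
  have hc : Nat.card M = 4 := Nat.dvd_antisymm hd hdiv
  have hcomm : ∀ a b : M, a * b = b * a := fun a b =>
    IsPGroup.commutative_of_card_eq_prime_sq (p := 2) (G := M) hc a b
  have hne : M ≠ ⊥ := fun h => by rw [h, Subgroup.card_bot] at hc; norm_num at hc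
  have hN : Subgroup.normalizer (M : Set PSL2) = M := by
    rcases eq_or_lt_of_le (Subgroup.le_normalizer (H := M)) with h | h
    · exact h.symm
    · exact absurd (hM.2 _ h) (normalizer_ne_top h4 hne hM.1)
  have hle : Subgroup.normalizer ((S : Subgroup PSL2) : Set PSL2) ≤
      Subgroup.centralizer ((S : Subgroup PSL2) : Set PSL2) := by
    rw [hSM, hN]
    intro a ha
    rw [Subgroup.mem_centralizer_iff]
    intro b hb
    exact congrArg Subtype.val (hcomm ⟨b, hb⟩ ⟨a, ha⟩)
  have hK := MonoidHom.ker_transferSylow_isComplement' S hle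
  set K := (MonoidHom.transferSylow S hle).ker
  have hKc := hK.card_mul
  rw [hSM, hc] at hKc
  rcases IsSimpleGroup.eq_bot_or_eq_top_of_normal K inferInstance with h | h
  · rw [h, Subgroup.card_bot, one_mul] at hKc
    haveI := IsPGroup.isNilpotent (G := PSL2) (IsPGroup.of_card (p := 2) (n := 2) hKc.symm)
    exact hns inferInstance
  · rw [h, Subgroup.card_top] at hKc
    have : 0 < Nat.card PSL2 := Nat.card_pos
    omega

/-- A maximal cyclic or dihedral subgroup is dihedral with a large rotation subgroup. -/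
theorem dihedral_of_maximal (h4 : 4 ≤ Fintype.card F) (p : ℕ) [Fact p.Prime] [CharP F p] (hM : IsCoatom M)
    {k : ℕ} (hk : k ∣ (Fintype.card F + 1) / Nat.gcd 2 (Fintype.card F - 1) ∨
      k ∣ (Fintype.card F - 1) / Nat.gcd 2 (Fintype.card F - 1))
    (h : (IsCyclic M ∧ Nat.card M = k) ∨ Nonempty (M ≃* DihedralGroup k)) :
    Nonempty (M ≃* DihedralGroup k) ∧ 3 ≤ k ∧
      (Nat.gcd 2 (Fintype.card F - 1) * k = Fintype.card F - 1 ∨
        Nat.gcd 2 (Fintype.card F - 1) * k = Fintype.card F + 1) := by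
  set d := Nat.gcd 2 (Fintype.card F - 1) with hd
  have hdq : d ∣ Fintype.card F - 1 := Nat.gcd_dvd_right _ _
  have hdq' : d ∣ Fintype.card F + 1 := by
    have h2 : d ∣ 2 := Nat.gcd_dvd_left _ _
    have := Nat.dvd_add hdq h2
    rwa [show Fintype.card F - 1 + 2 = Fintype.card F + 1 by omega] at this
  have hMtop : M ≠ ⊤ := hM.1
  have hns : ∀ K : Subgroup PSL2, M < K → K ≠ ⊤ → False := fun K hK hne => hne (hM.2 K hK)
  rcases h with ⟨hc, hcard⟩ | he
  · exfalso
    obtain ⟨⟨x, hx⟩, hgen⟩ := IsCyclic.exists_generator (α := M)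
    have hMz : M = Subgroup.zpowers x := by
      refine le_antisymm (fun y hy => ?_) (Subgroup.zpowers_le.mpr hx)
      obtain ⟨i, hi⟩ := hgen ⟨y, hy⟩
      exact ⟨i, congrArg Subtype.val hi⟩
    have hx2 : x ^ 2 ≠ 1 := by
      intro h2
      refine not_card_dvd_four h4 hM ?_
      rw [hMz, Nat.card_zpowers]
      exact (orderOf_dvd_of_pow_eq_one h2).trans (by norm_num)
    obtain ⟨g, rfl⟩ := QuotientGroup.mk_surjective x
    have hxp : (QuotientGroup.mk g : PSL2) ^ p ≠ 1 := by
      intro h
      have h1 : orderOf (QuotientGroup.mk g : PSL2) = p :=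
        orderOf_eq_prime h fun e => hx2 (by rw [e, one_pow])
      have hkc : Nat.card M = p := by rw [hMz, Nat.card_zpowers, h1]
      rw [hcard] at hkc
      subst hkc
      obtain ⟨a, -, ha⟩ := FiniteField.card F k
      have hpq : k ∣ Fintype.card F := ha ▸ dvd_pow_self k a.pos.ne'
      rcases hk with hk | hk
      · exact (Fact.out : k.Prime).not_dvd_one
          ((Nat.dvd_add_right hpq).mp (hk.trans (Nat.div_dvd_of_dvd hdq')))
      · have := Nat.dvd_sub hpq (hk.trans (Nat.div_dvd_of_dvd hdq))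
        rw [show Fintype.card F - (Fintype.card F - 1) = 1 by omega] at this
        exact (Fact.out : k.Prime).not_dvd_one this
    obtain ⟨w, -, hw⟩ := exists_inverting p g hxp
    have hwM : w ∈ M := by
      have hN : Subgroup.normalizer (M : Set PSL2) = M := by
        rcases eq_or_lt_of_le (Subgroup.le_normalizer (H := M)) with h | h
        · exact h.symm
        · refine absurd (normalizer_ne_top h4 ?_ hMtop) (fun h' => hns _ h h')
          intro hb
          rw [hb, Subgroup.card_bot] at hcard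
          exact not_card_dvd_four h4 hM (by rw [hb, Subgroup.card_bot]; norm_num)
      rw [← hN, Subgroup.mem_normalizer_iff]
      intro y
      rw [hMz]
      constructor
      · rintro ⟨i, rfl⟩
        show w * (QuotientGroup.mk g : PSL2) ^ i * w⁻¹ ∈ _
        rw [← conj_zpow, hw]
        exact Subgroup.zpow_mem _ ((Subgroup.zpowers _).inv_mem (Subgroup.mem_zpowers _)) i
      · rintro ⟨i, hi⟩
        refine ⟨-i, ?_⟩
        have : w * (QuotientGroup.mk g : PSL2) ^ (-i) * w⁻¹ = w * y * w⁻¹ := by
          rw [← conj_zpow, hw, _root_.inv_zpow', neg_neg]; exact hi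
        exact mul_left_cancel (mul_right_cancel this)
    rw [hMz] at hwM
    obtain ⟨i, rfl⟩ := hwM
    rw [show (QuotientGroup.mk g : PSL2) ^ i * QuotientGroup.mk g * ((QuotientGroup.mk g : PSL2) ^ i)⁻¹ =
      QuotientGroup.mk g by group] at hw
    exact hx2 (by rw [sq]; exact mul_eq_one_iff_eq_inv.mpr hw)
  · obtain ⟨e⟩ := he
    have hc : Nat.card M = 2 * k := by rw [Nat.card_congr e.toEquiv, DihedralGroup.nat_card]
    have hk0 : 0 < k := by have := (Nat.card_pos (α := M)); omega
    have hk3 : 3 ≤ k := by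
      by_contra hlt
      refine not_card_dvd_four h4 hM (hc ▸ ?_)
      interval_cases k <;> norm_num
    refine ⟨⟨e⟩, hk3, ?_⟩
    haveI : NeZero k := ⟨hk0.ne'⟩
    set x : PSL2 := ((e.symm (DihedralGroup.r 1) : M) : PSL2) with hxdef
    have hxo : orderOf x = k := by
      rw [hxdef, Subgroup.orderOf_coe, e.symm.orderOf_eq, DihedralGroup.orderOf_r_one]
    have hx2 : x ^ 2 ≠ 1 := fun h => by
      have := Nat.le_of_dvd two_pos (orderOf_dvd_of_pow_eq_one h)
      omega
    have hxM : x ∈ M := (e.symm (DihedralGroup.r 1)).2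
    have hMle : M ≤ Subgroup.normalizer (Subgroup.zpowers x : Set PSL2) := by
      have key : ∀ y : M, ((y : PSL2) * x * (y : PSL2)⁻¹ = x ∨ (y : PSL2) * x * (y : PSL2)⁻¹ = x⁻¹) := by
        intro y
        have hy : e y * DihedralGroup.r 1 * (e y)⁻¹ = DihedralGroup.r 1 ∨
            e y * DihedralGroup.r 1 * (e y)⁻¹ = (DihedralGroup.r 1)⁻¹ := by
          generalize e y = z
          rcases z with i | i
          · left; simp
          · right; simp
        refine hy.imp (fun h => ?_) fun h => ?_
        · have := congrArg (fun u => ((e.symm u : M) : PSL2)) h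
          simp only [map_mul, map_inv, MulEquiv.symm_apply_apply, Subgroup.coe_mul, InvMemClass.coe_inv] at this
          exact this
        · have := congrArg (fun u => ((e.symm u : M) : PSL2)) h
          simp only [map_mul, map_inv, MulEquiv.symm_apply_apply, Subgroup.coe_mul, InvMemClass.coe_inv] at this
          exact this
      intro y hy
      rw [Subgroup.mem_normalizer_iff]
      have hsub : ∀ y : M, ∀ z ∈ Subgroup.zpowers x, (y : PSL2) * z * (y : PSL2)⁻¹ ∈ Subgroup.zpowers x := by
        rintro y _ ⟨i, rfl⟩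
        show (y : PSL2) * x ^ i * (y : PSL2)⁻¹ ∈ _
        rw [← conj_zpow]
        rcases key y with h | h <;> rw [h]
        · exact ⟨i, rfl⟩
        · exact Subgroup.zpow_mem _ ((Subgroup.zpowers x).inv_mem (Subgroup.mem_zpowers x)) i
      intro z
      refine ⟨hsub ⟨y, hy⟩ z, fun hz => ?_⟩
      have := hsub (⟨y, hy⟩ : M)⁻¹ _ hz
      simpa [mul_assoc] using this
    have hNtop : Subgroup.normalizer (Subgroup.zpowers x : Set PSL2) ≠ ⊤ := by
      refine normalizer_ne_top h4 (fun h => ?_) fun h => hMtop (top_le_iff.mp (h ▸ Subgroup.zpowers_le.mpr hxM))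
      rw [Subgroup.zpowers_eq_bot] at h
      exact hx2 (by rw [h, one_pow])
    have hMN : M = Subgroup.normalizer (Subgroup.zpowers x : Set PSL2) := by
      rcases eq_or_lt_of_le hMle with h | h
      · exact h
      · exact absurd (hM.2 _ h) hNtop
    have hC : Subgroup.centralizer ({x} : Set PSL2) ≤ Subgroup.zpowers x := by
      intro c hc'
      have hcx : c * x = x * c := Subgroup.mem_centralizer_singleton_iff.mp hc'
      have hcM : c ∈ M := by
        rw [hMN, Subgroup.mem_normalizer_iff]
        intro z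
        constructor
        · rintro ⟨i, rfl⟩
          show c * x ^ i * c⁻¹ ∈ _
          rw [← conj_zpow, hcx, mul_inv_cancel_right]
          exact ⟨i, rfl⟩
        · rintro ⟨i, hi⟩
          refine ⟨i, ?_⟩
          have : c * x ^ i * c⁻¹ = c * z * c⁻¹ := by rw [← conj_zpow, hcx, mul_inv_cancel_right]; exact hi
          exact mul_left_cancel (mul_right_cancel this)
      have h1 : e ⟨c, hcM⟩ * DihedralGroup.r 1 = DihedralGroup.r 1 * e ⟨c, hcM⟩ := by
        have : e (⟨c, hcM⟩ * e.symm (DihedralGroup.r 1)) = e (e.symm (DihedralGroup.r 1) * ⟨c, hcM⟩) :=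
          congrArg e (Subtype.ext hcx)
        simpa using this
      rcases hz : e ⟨c, hcM⟩ with i | i
      · refine ⟨(i.val : ℤ), ?_⟩
        have h2 : e.symm (DihedralGroup.r i) = ⟨c, hcM⟩ := by rw [← hz]; exact e.symm_apply_apply _
        have h3 : DihedralGroup.r i = (DihedralGroup.r 1 : DihedralGroup k) ^ i.val := by simp
        rw [h3, map_pow] at h2
        show x ^ (i.val : ℤ) = c
        rw [zpow_natCast, hxdef, ← Subgroup.coe_pow, h2]
      · exfalso
        rw [hz] at h1
        simp only [DihedralGroup.sr_mul_r, DihedralGroup.r_mul_sr] at h1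
        have h2 : ((2 : ℕ) : ZMod k) = 0 := by
          have := DihedralGroup.sr.inj h1
          push_cast
          linear_combination this
        rw [ZMod.natCast_eq_zero_iff] at h2
        have := Nat.le_of_dvd two_pos h2
        omega
    have hge := card_centralizer_ge hx2
    have hle : Nat.card (Subgroup.centralizer ({x} : Set PSL2)) ≤ k := by
      rw [← hxo, ← Nat.card_zpowers]
      exact Subgroup.card_le_of_le hC
    have hdk : Fintype.card F - 1 ≤ d * k := hge.trans (Nat.mul_le_mul_left d hle)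
    have hdvd : d * k ∣ Fintype.card F + 1 ∨ d * k ∣ Fintype.card F - 1 :=
      hk.imp (fun h => Nat.mul_dvd_of_dvd_div hdq' h) (fun h => Nat.mul_dvd_of_dvd_div hdq h)
    rcases hdvd with h | h
    · obtain ⟨j, hj⟩ := h
      right
      rcases (show j = 0 ∨ j = 1 ∨ 2 ≤ j by omega) with rfl | rfl | hj2
      · omega
      · omega
      · have := Nat.mul_le_mul_left (d * k) hj2
        omega
    · left
      exact le_antisymm (Nat.le_of_dvd (by omega) h) hdk

/-- A maximal subgroup with a nontrivial normal `p`-subgroup is the normaliser of a Sylow subgroup. -/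
theorem card_of_normal_pgroup (h4 : 4 ≤ Fintype.card F) (p : ℕ) [Fact p.Prime] [CharP F p] (hM : IsCoatom M)
    (h : ∃ P : Sylow p PSL2, M ≤ Subgroup.normalizer ((P : Subgroup PSL2) : Set PSL2)) :
    Nat.gcd 2 (Fintype.card F - 1) * Nat.card M = Fintype.card F * (Fintype.card F - 1) := by
  obtain ⟨P, hP⟩ := h
  have hne : Subgroup.normalizer ((P : Subgroup PSL2) : Set PSL2) ≠ ⊤ := fun h => by
    have := index_normalizer_sylow_psl p P
    rw [h, Subgroup.index_top] at this
    omega
  rcases eq_or_lt_of_le hP with h | h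
  · rw [h]; exact card_normalizer_sylow_psl p P
  · exact absurd (hM.2 _ h) hne

end Cfsg.Lib.Dickson
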