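import Cfsg.Agent.Lib.Dickson.Maximal.Common

/-!
# The maximal subgroups of `PSL(2, 2 ^ n)`
-/

set_option autoImplicit false
set_option linter.unusedSectionVars false

open Matrix
open scoped MatrixGroups

namespace Cfsg.Lib.Dickson

theorem maximal_types_even {F : Type*} [Field F] [Fintype F]
    (heven : Even (Fintype.card F)) (h4 : 4 ≤ Fintype.card F)
    (M : Subgroup (Matrix.ProjectiveSpecialLinearGroup (Fin 2) F)) (hM : IsCoatom M) :
    Nat.card M = Fintype.card F * (Fintype.card F - 1) ∨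
    Nonempty (M ≃* DihedralGroup (Fintype.card F - 1)) ∨
    Nonempty (M ≃* DihedralGroup (Fintype.card F + 1)) ∨
    (∃ (F₀ : Type) (_ : Field F₀) (_ : Fintype F₀) (r : ℕ), r.Prime ∧ Fintype.card F₀ ≠ 2 ∧
        Fintype.card F = Fintype.card F₀ ^ r ∧ Nonempty (M ≃* Matrix.ProjectiveSpecialLinearGroup (Fin 2) F₀)) := by
  classical
  obtain ⟨p, hpp, hp, n, hn0, hn⟩ := exists_char (F := F)
  obtain rfl : p = 2 := by
    have h2 : 2 ∣ p ^ n := hn ▸ heven.two_dvd
    exact ((Nat.prime_dvd_prime_iff_eq Nat.prime_two hpp).mp (Nat.prime_two.dvd_of_dvd_pow h2)).symm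
  haveI := Fact.mk hpp
  have hq2 : Fintype.card F % 2 = 0 := Nat.even_iff.mp heven
  have hd : Nat.gcd 2 (Fintype.card F - 1) = 1 := by
    rw [Nat.gcd_rec, show (Fintype.card F - 1) % 2 = 1 by omega]; rfl
  have hborel : (∃ P : Sylow 2 (Matrix.ProjectiveSpecialLinearGroup (Fin 2) F),
      M ≤ Subgroup.normalizer ((P : Subgroup (Matrix.ProjectiveSpecialLinearGroup (Fin 2) F)) :
        Set (Matrix.ProjectiveSpecialLinearGroup (Fin 2) F))) →
      Nat.card M = Fintype.card F * (Fintype.card F - 1) := fun h => by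
    have := card_of_normal_pgroup h4 2 hM h
    rwa [hd, one_mul] at this
  by_cases hN : ∃ P : Sylow 2 (Matrix.ProjectiveSpecialLinearGroup (Fin 2) F),
      M ≤ Subgroup.normalizer ((P : Subgroup (Matrix.ProjectiveSpecialLinearGroup (Fin 2) F)) :
        Set (Matrix.ProjectiveSpecialLinearGroup (Fin 2) F))
  · exact Or.inl (hborel hN)
  right
  rcases psl_subgroup_cases 2 M with ⟨k, hk, h⟩ | ⟨-, hP⟩ | ⟨-, h⟩
  · obtain ⟨⟨e⟩, -, hkk⟩ := dihedral_of_maximal h4 2 hM hk h
    rw [hd, one_mul] at hkk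
    rcases hkk with rfl | rfl
    · exact Or.inl ⟨e⟩
    · exact Or.inr (Or.inl ⟨e⟩)
  · exact absurd hP hN
  refine Or.inr (Or.inr ?_)
  -- a subgroup `PSL(2, q₀)`
  have field : ∀ (K : Type) [Field K] [Fintype K] [CharP K 2] (m : ℕ), 3 ≤ Fintype.card K →
      Fintype.card K ^ m = Fintype.card F → (M ≃* Matrix.ProjectiveSpecialLinearGroup (Fin 2) K) →
      ∃ (F₀ : Type) (_ : Field F₀) (_ : Fintype F₀) (r : ℕ), r.Prime ∧ Fintype.card F₀ ≠ 2 ∧
        Fintype.card F = Fintype.card F₀ ^ r ∧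
          Nonempty (M ≃* Matrix.ProjectiveSpecialLinearGroup (Fin 2) F₀) := by
    intro K _ _ _ m h3 hm e
    obtain ⟨k, hk, hk0, hnk⟩ := exists_exponent 2 hn hm
    have hm0 : m ≠ 0 := by rintro rfl; omega
    have hm1 : m ≠ 1 := by
      rintro rfl
      rw [pow_one] at hm
      refine hM.1 (Subgroup.eq_top_of_card_eq M ?_)
      have h1 := Cfsg.Lib.Linear.Two.card_PSL_two (F := F)
      have h2 := Cfsg.Lib.Linear.Two.card_PSL_two (F := K)
      rw [Nat.card_congr e.toEquiv]
      rw [hm] at h2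
      exact Nat.eq_of_mul_eq_mul_left (by rw [hd]; exact one_pos) (h2.trans h1.symm)
    have hlt : k < n := by
      rw [hnk]; exact lt_mul_of_one_lt_right hk0 (by omega)
    obtain ⟨hpr, -⟩ := psl_field_max 2 h4 hn ⟨m, hnk⟩ hlt hM hN hk e
    rw [hnk, Nat.mul_div_cancel_left _ hk0] at hpr
    exact ⟨K, inferInstance, inferInstance, m, hpr, by omega, hm.symm, ⟨e⟩⟩
  rcases h with h | h | h | ⟨K, _, _, m, hKp, h3, hm, h⟩
  · obtain ⟨e⟩ := h
    exact absurd (le_normalizer_of_iso_two e _ fourFour_sub_ne_bot fun a ha => Subtype.ext ha.1) hN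
  · obtain ⟨e⟩ := h
    exact absurd (le_normalizer_of_iso_two e fourFour fourFour_ne_bot fun a ha => ha.1) hN
  · obtain ⟨e⟩ := h
    have h5 := five_dvd_of_alternating_five e
    have hne : Even n := by
      by_contra hodd
      rw [Nat.not_even_iff_odd] at hodd
      obtain ⟨j, rfl⟩ := hodd
      have hq : Fintype.card F % 5 = 2 ∨ Fintype.card F % 5 = 3 := by
        rw [hn, pow_succ, pow_mul, Nat.mul_mod, Nat.pow_mod]
        norm_num
        rcases Nat.even_or_odd j with ⟨i, rfl⟩ | ⟨i, rfl⟩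
        · left; rw [← two_mul, pow_mul, Nat.mul_mod, Nat.pow_mod]; norm_num
        · right; rw [pow_succ, pow_mul, Nat.mul_mod, Nat.mul_mod (((4 : ℕ) ^ 2) ^ i), Nat.pow_mod]; norm_num
      have h5' : (Fintype.card F * (Fintype.card F ^ 2 - 1)) % 5 = 0 := Nat.mod_eq_zero_of_dvd h5
      have h1 : 1 ≤ Fintype.card F ^ 2 := Nat.one_le_pow _ _ (by omega)
      have hs : (Fintype.card F ^ 2) % 5 = 4 := by
        rw [Nat.pow_mod]; rcases hq with hq | hq <;> rw [hq] <;> norm_num
      rw [Nat.mul_mod, show (Fintype.card F ^ 2 - 1) % 5 = 3 by omega] at h5'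
      rcases hq with hq | hq <;> rw [hq] at h5' <;> norm_num at h5'
    obtain ⟨j, hj⟩ := hne
    haveI : Fintype (GaloisField 2 2) := Fintype.ofFinite _
    have hc : Fintype.card (GaloisField 2 2) = 4 := by
      rw [← Nat.card_eq_fintype_card, GaloisField.card 2 2 two_ne_zero]; rfl
    obtain ⟨f⟩ := Cfsg.Lib.Linear.Two.psl_equiv_alternating (F := GaloisField 2 2) (n := 5) (by omega) (by
      have h := Cfsg.Lib.Linear.Two.card_PSL_two (F := GaloisField 2 2)
      rw [hc] at h
      norm_num [Nat.factorial] at h ⊢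
      omega)
    refine field (GaloisField 2 2) j (by omega) ?_ (e.trans f.symm)
    rw [hc, hn, hj, ← two_mul, pow_mul]
    norm_num
  · haveI := hKp
    rcases h with ⟨-, hodd⟩ | ⟨⟨e⟩⟩
    · exfalso
      obtain ⟨k, hk, hk0, -⟩ := exists_exponent 2 hn hm
      rw [hk, Nat.pow_mod, Nat.mod_self, zero_pow hk0.ne'] at hodd
      omega
    · haveI : Finite (Matrix.ProjectiveSpecialLinearGroup (Fin 2) K) := inferInstance
      haveI : Finite (Matrix.ProjGenLinGroup (Fin 2) K) := Finite.of_equiv M e.toEquiv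
      have hbij : Function.Bijective (Matrix.ProjectiveSpecialLinearGroup.toPGL :
          Matrix.ProjectiveSpecialLinearGroup (Fin 2) K →* _) := by
        refine (Nat.bijective_iff_injective_and_card _).mpr
          ⟨Matrix.ProjectiveSpecialLinearGroup.toPGL_injective, ?_⟩
        have h := Cfsg.Lib.Linear.Two.card_PSL_two (F := K)
        obtain ⟨k, hk, hk0, -⟩ := exists_exponent 2 hn hm
        rw [show Nat.gcd 2 (Fintype.card K - 1) = 1 by
          rw [Nat.gcd_rec, show (Fintype.card K - 1) % 2 = 1 by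
            have : Fintype.card K % 2 = 0 := by rw [hk, Nat.pow_mod, Nat.mod_self, zero_pow hk0.ne', Nat.zero_mod]
            omega]
          rfl, one_mul] at h
        rw [h, card_PGL_two_eq]
      exact field K m h3 hm (e.trans (MulEquiv.ofBijective _ hbij).symm)

end Cfsg.Lib.Dickson
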