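import Cfsg.Agent.Lib.Dickson.Maximal.SmallGroups

/-!
# The small exceptions among the dihedral subgroups
-/

set_option autoImplicit false
set_option linter.unusedSectionVars false

namespace Cfsg.Lib.Dickson

variable {G : Type*} [Group G] [Finite G]

theorem card_conj_map (K : Subgroup G) (g : G) :
    Nat.card (K.map (MulAut.conj g).toMonoidHom) = Nat.card K :=
  (Nat.card_congr (K.equivMapOfInjective _ (MulAut.conj g).injective).toEquiv).symm

/-- A maximal subgroup cannot be a Sylow subgroup of a larger proper subgroup. -/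
theorem not_sylow_of_larger (r : ℕ) [Fact r.Prime] {M B : Subgroup G} (hM : IsCoatom M) {i : ℕ}
    (hMc : Nat.card M = r ^ i) (hG : ¬ r ^ (i + 1) ∣ Nat.card G) (hBc : r ^ i ∣ Nat.card B)
    (hne : Nat.card B ≠ Nat.card M) (hB : B ≠ ⊤) : False := by
  have hsyl : ∀ K : Subgroup G, Nat.card K = r ^ i → ∃ S : Sylow r G, (S : Subgroup G) = K := by
    intro K hK
    have hKp : IsPGroup r K := IsPGroup.of_card (n := i) hK
    obtain ⟨S, hS⟩ := hKp.exists_le_sylow
    refine ⟨S, (Subgroup.eq_of_le_of_card_ge hS ?_).symm⟩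
    obtain ⟨l, hl⟩ := IsPGroup.iff_card.mp S.2
    rw [hl, hK]
    refine Nat.pow_le_pow_right (Fact.out : r.Prime).pos ?_
    by_contra hlt
    exact hG ((Nat.pow_dvd_pow r (show i + 1 ≤ l by omega)).trans (hl ▸ Subgroup.card_subgroup_dvd_card _))
  obtain ⟨K, hK⟩ := Sylow.exists_subgroup_card_pow_prime (G := B) r (n := i) hBc
  obtain ⟨S, hS⟩ := hsyl (K.map B.subtype) (by
    rw [← Nat.card_congr (K.equivMapOfInjective _ B.subtype_injective).toEquiv, hK])
  obtain ⟨T, hT⟩ := hsyl M hMc
  obtain ⟨g, hg⟩ := MulAction.exists_smul_eq G S T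
  have hle : M ≤ B.map (MulAut.conj g).toMonoidHom := by
    rw [← hT, ← hg, Sylow.coe_subgroup_smul, hS]
    exact Subgroup.map_mono (Subgroup.map_subtype_le K)
  rcases eq_or_lt_of_le hle with h | h
  · exact hne (by rw [← card_conj_map B g, ← h])
  · refine hB (Subgroup.eq_top_of_card_eq B ?_)
    rw [← card_conj_map B g, hM.2 _ h, Subgroup.card_top]

/-- A maximal subgroup cannot be a Sylow normaliser met by a larger proper subgroup in itself. -/
theorem not_sylow_normalizer_of_larger (r : ℕ) [Fact r.Prime] {M B : Subgroup G} (hM : IsCoatom M)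
    [IsSimpleGroup G] (hMc : Nat.card M = 2 * r) (hG : ¬ r ^ 2 ∣ Nat.card G) (hBc : r ∣ Nat.card B)
    (hne : Nat.card B ≠ Nat.card M) (hB : B ≠ ⊤)
    (harith : ∀ a c : ℕ, a ∣ 2 * r → c % r = 1 → a * c = Nat.card B → a = 2 * r) : False := by
  have hr := (Fact.out : r.Prime)
  obtain ⟨⟨x, hx⟩, hxo⟩ := exists_prime_orderOf_dvd_card' (G := M) r (hMc ▸ dvd_mul_left r 2)
  rw [Subgroup.orderOf_mk] at hxo
  set X := Subgroup.zpowers x with hX
  have hXc : Nat.card X = r := by rw [hX, Nat.card_zpowers, hxo]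
  have hXM : X ≤ M := Subgroup.zpowers_le.mpr hx
  haveI : (X.subgroupOf M).Normal := by
    refine Subgroup.normal_of_index_eq_two ?_
    have h := Subgroup.card_mul_index (X.subgroupOf M)
    rw [Nat.card_congr (Subgroup.subgroupOfEquivOfLe hXM).toEquiv, hXc, hMc, mul_comm 2] at h
    exact Nat.eq_of_mul_eq_mul_left hr.pos h
  have hMN : M = Subgroup.normalizer (X : Set G) := by
    have hle : M ≤ Subgroup.normalizer (X : Set G) :=
      (Subgroup.normal_subgroupOf_iff_le_normalizer hXM).mp inferInstance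
    rcases eq_or_lt_of_le hle with h | h
    · exact h
    · exfalso
      haveI : X.Normal := Subgroup.normalizer_eq_top_iff.mp (hM.2 _ h)
      rcases IsSimpleGroup.eq_bot_or_eq_top_of_normal X inferInstance with h' | h'
      · rw [h', Subgroup.card_bot] at hXc; exact hr.one_lt.ne hXc
      · exact hM.1 (top_le_iff.mp (h' ▸ hXM))
  have hsyl : ∀ K : Subgroup G, Nat.card K = r → ∃ S : Sylow r G, (S : Subgroup G) = K := by
    intro K hK
    have hKp : IsPGroup r K := IsPGroup.of_card (n := 1) (by rw [hK, pow_one])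
    obtain ⟨S, hS⟩ := hKp.exists_le_sylow
    refine ⟨S, (Subgroup.eq_of_le_of_card_ge hS ?_).symm⟩
    obtain ⟨l, hl⟩ := IsPGroup.iff_card.mp S.2
    rw [hl, hK]
    calc r ^ l ≤ r ^ 1 := Nat.pow_le_pow_right hr.pos (by
          by_contra hlt
          exact hG ((Nat.pow_dvd_pow r (show 2 ≤ l by omega)).trans (hl ▸ Subgroup.card_subgroup_dvd_card _)))
      _ = r := pow_one r
  obtain ⟨⟨y, hy⟩, hyo⟩ := exists_prime_orderOf_dvd_card' (G := B) r hBc
  rw [Subgroup.orderOf_mk] at hyo
  obtain ⟨S, hS⟩ := hsyl (Subgroup.zpowers y) (by rw [Nat.card_zpowers, hyo])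
  obtain ⟨T, hT⟩ := hsyl X hXc
  obtain ⟨g, hg⟩ := MulAction.exists_smul_eq G S T
  set B' := B.map (MulAut.conj g).toMonoidHom with hB'
  have hTB : (T : Subgroup G) ≤ B' := by
    rw [← hg, Sylow.coe_subgroup_smul, hS]
    exact Subgroup.map_mono (Subgroup.zpowers_le.mpr hy)
  let T' : Sylow r B' := T.subtype hTB
  have hN : (Subgroup.normalizer ((T' : Subgroup B') : Set B')) =
      (Subgroup.normalizer ((T : Subgroup G) : Set G)).subgroupOf B' := by
    ext z
    rw [Subgroup.mem_subgroupOf, Subgroup.mem_normalizer_iff, Subgroup.mem_normalizer_iff]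
    constructor
    · intro h w
      constructor
      · intro hw
        exact Subgroup.mem_subgroupOf.mp ((h ⟨w, hTB hw⟩).mp (Subgroup.mem_subgroupOf.mpr hw))
      · intro hw
        have hw' : w ∈ B' := by
          have := B'.mul_mem (B'.mul_mem (B'.inv_mem z.2) (hTB hw)) z.2
          simpa [mul_assoc] using this
        exact Subgroup.mem_subgroupOf.mp ((h ⟨w, hw'⟩).mpr (Subgroup.mem_subgroupOf.mpr hw))
    · intro h w
      exact h w
  have hcount : Nat.card (Subgroup.normalizer ((T' : Subgroup B') : Set B')) * Nat.card (Sylow r B') = Nat.card B := by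
    rw [show Nat.card (Sylow r B') = (Subgroup.normalizer ((T' : Subgroup B') : Set B')).index from
      T'.card_eq_index_normalizer, Subgroup.card_mul_index, hB', card_conj_map]
  have hn1 : Nat.card (Sylow r B') % r = 1 := by
    have := card_sylow_modEq_one r B'
    rwa [Nat.ModEq, Nat.mod_eq_of_lt hr.one_lt] at this
  have hcN : Nat.card (Subgroup.normalizer ((T' : Subgroup B') : Set B')) = Nat.card (M.subgroupOf B') := by
    rw [hN, hMN, hT]
  have hdvd : Nat.card (M.subgroupOf B') ∣ 2 * r :=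
    hMc ▸ Subgroup.card_comap_dvd_of_injective M B'.subtype B'.subtype_injective
  have hfull := harith _ _ hdvd hn1 (hcN ▸ hcount)
  have hMB : M ≤ B' := by
    have h2 : Nat.card ↥(M ⊓ B') = 2 * r := by
      rw [← hfull]
      exact Nat.card_congr
        { toFun := fun u => ⟨⟨u.1, u.2.2⟩, u.2.1⟩
          invFun := fun u => ⟨u.1.1, u.2, u.1.2⟩ }
    have := Subgroup.eq_of_le_of_card_ge (inf_le_left : M ⊓ B' ≤ M) (by rw [h2, hMc])
    exact this ▸ inf_le_right
  rcases eq_or_lt_of_le hMB with h | h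
  · exact hne (by rw [← card_conj_map B g, ← hB', ← h])
  · refine hB (Subgroup.eq_top_of_card_eq B ?_)
    rw [← card_conj_map B g, ← hB', hM.2 _ h, Subgroup.card_top]

variable {F : Type*} [Field F] [Fintype F]

/-- The dihedral exceptions at `q = 7, 9, 11`. -/
theorem dihedral_excluded (hodd : Fintype.card F % 2 = 1)
    {M : Subgroup (Matrix.ProjectiveSpecialLinearGroup (Fin 2) F)} (hM : IsCoatom M) {k : ℕ}
    (hc : Nat.card M = 2 * k)
    (hqk : (Fintype.card F = 7 ∧ (k = 3 ∨ k = 4)) ∨ (Fintype.card F = 9 ∧ (k = 4 ∨ k = 5)) ∨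
      (Fintype.card F = 11 ∧ k = 5)) : False := by
  classical
  haveI : Finite (Matrix.ProjectiveSpecialLinearGroup (Fin 2) F) := inferInstance
  haveI := isSimpleGroup_psl_two (F := F) (by omega)
  have hG := card_psl_mul (K := F) hodd
  have S4 : Fintype.card F ^ 2 % 16 = 1 →
      ∃ B : Subgroup (Matrix.ProjectiveSpecialLinearGroup (Fin 2) F), Nat.card B = 24 := by
    intro h
    obtain ⟨B, ⟨f⟩⟩ := (Cfsg.Agent.S0803.result (F := F) rfl).mpr h
    exact ⟨B, card_target_perm f⟩
  have A5 : 5 ∣ Fintype.card F * (Fintype.card F ^ 2 - 1) →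
      ∃ B : Subgroup (Matrix.ProjectiveSpecialLinearGroup (Fin 2) F), Nat.card B = 60 := by
    intro h
    obtain ⟨B, ⟨f⟩⟩ := (Cfsg.Agent.S0804.result (F := F) rfl).mpr h
    exact ⟨B, card_target_five f⟩
  have hdiv : ∀ a m : ℕ, a ∣ m → 0 < m → a ≤ m := fun a m h hm => Nat.le_of_dvd hm h
  have topne : ∀ B : Subgroup (Matrix.ProjectiveSpecialLinearGroup (Fin 2) F),
      Nat.card B ≤ 60 → Fintype.card F * (Fintype.card F ^ 2 - 1) > 120 → B ≠ ⊤ := by
    intro B hB hgt h
    rw [h, Subgroup.card_top] at hB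
    omega
  rcases hqk with ⟨hq, rfl | rfl⟩ | ⟨hq, rfl | rfl⟩ | ⟨hq, rfl⟩ <;> rw [hq] at hG <;> norm_num at hG
  · haveI := Fact.mk Nat.prime_three
    obtain ⟨B, hB⟩ := S4 (by rw [hq]; norm_num)
    refine not_sylow_normalizer_of_larger 3 hM hc ?_ (by rw [hB]; norm_num) (by rw [hB, hc]; norm_num)
      (topne B (by omega) (by rw [hq]; norm_num)) ?_
    · rw [show Nat.card (Matrix.ProjectiveSpecialLinearGroup (Fin 2) F) = 168 by
        rw [Nat.card_eq_fintype_card]; omega]; norm_num
    · intro a c ha hc1 hac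
      have := hdiv a _ ha (by norm_num)
      rw [hB] at hac
      interval_cases a <;> omega
  · haveI := Fact.mk Nat.prime_two
    obtain ⟨B, hB⟩ := S4 (by rw [hq]; norm_num)
    refine not_sylow_of_larger 2 hM (i := 3) (by rw [hc]; norm_num) ?_ (by rw [hB]; norm_num)
      (by rw [hB, hc]; norm_num) (topne B (by omega) (by rw [hq]; norm_num))
    rw [show Nat.card (Matrix.ProjectiveSpecialLinearGroup (Fin 2) F) = 168 by
      rw [Nat.card_eq_fintype_card]; omega]; norm_num
  · haveI := Fact.mk Nat.prime_two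
    obtain ⟨B, hB⟩ := S4 (by rw [hq]; norm_num)
    refine not_sylow_of_larger 2 hM (i := 3) (by rw [hc]; norm_num) ?_ (by rw [hB]; norm_num)
      (by rw [hB, hc]; norm_num) (topne B (by omega) (by rw [hq]; norm_num))
    rw [show Nat.card (Matrix.ProjectiveSpecialLinearGroup (Fin 2) F) = 360 by
      rw [Nat.card_eq_fintype_card]; omega]; norm_num
  · haveI := Fact.mk (show Nat.Prime 5 by norm_num)
    obtain ⟨B, hB⟩ := A5 (by rw [hq]; norm_num)
    refine not_sylow_normalizer_of_larger 5 hM hc ?_ (by rw [hB]; norm_num) (by rw [hB, hc]; norm_num)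
      (topne B (by omega) (by rw [hq]; norm_num)) ?_
    · rw [show Nat.card (Matrix.ProjectiveSpecialLinearGroup (Fin 2) F) = 360 by
        rw [Nat.card_eq_fintype_card]; omega]; norm_num
    · intro a c ha hc1 hac
      have := hdiv a _ ha (by norm_num)
      rw [hB] at hac
      interval_cases a <;> omega
  · haveI := Fact.mk (show Nat.Prime 5 by norm_num)
    obtain ⟨B, hB⟩ := A5 (by rw [hq]; norm_num)
    refine not_sylow_normalizer_of_larger 5 hM hc ?_ (by rw [hB]; norm_num) (by rw [hB, hc]; norm_num)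
      (topne B (by omega) (by rw [hq]; norm_num)) ?_
    · rw [show Nat.card (Matrix.ProjectiveSpecialLinearGroup (Fin 2) F) = 660 by
        rw [Nat.card_eq_fintype_card]; omega]; norm_num
    · intro a c ha hc1 hac
      have := hdiv a _ ha (by norm_num)
      rw [hB] at hac
      interval_cases a <;> omega

end Cfsg.Lib.Dickson
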