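import Cfsg.Agent.Lib.Dickson.Maximal.Conj

/-!
# Traces of the elements of a subgroup isomorphic to `PSL(2, q₀)` or `PGL(2, q₀)`
-/

set_option autoImplicit false
set_option linter.unusedSectionVars false

open Matrix
open scoped MatrixGroups

namespace Cfsg.Lib.Dickson

variable {F : Type*} [Field F] [Fintype F]

local notation "SL2" => Matrix.SpecialLinearGroup (Fin 2) F
local notation "PSL2" => Matrix.ProjectiveSpecialLinearGroup (Fin 2) F

variable (p : ℕ) [Fact p.Prime] [CharP F p]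

include p in
/-- The Frobenius identity `g ^ r + g ^ (-r) = t ^ r`. -/
theorem pow_add_inv_pow (g : SL2) (k : ℕ) :
    ((g ^ p ^ k : SL2) : Matrix (Fin 2) (Fin 2) F) + (((g ^ p ^ k)⁻¹ : SL2) : Matrix (Fin 2) (Fin 2) F) =
      (g 0 0 + g 1 1) ^ p ^ k • (1 : Matrix (Fin 2) (Fin 2) F) := by
  have hcomm : Commute (g : Matrix (Fin 2) (Fin 2) F) ((g⁻¹ : SL2) : Matrix (Fin 2) (Fin 2) F) := by
    show _ * _ = _ * _
    rw [← Matrix.SpecialLinearGroup.coe_mul, ← Matrix.SpecialLinearGroup.coe_mul, mul_inv_cancel, inv_mul_cancel]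
  have hsum : (g : Matrix (Fin 2) (Fin 2) F) + ((g⁻¹ : SL2) : Matrix (Fin 2) (Fin 2) F) =
      (g 0 0 + g 1 1) • (1 : Matrix (Fin 2) (Fin 2) F) := by
    rw [Matrix.SpecialLinearGroup.coe_inv, Matrix.adjugate_fin_two]
    ext i j
    fin_cases i <;> fin_cases j <;> simp [add_comm]
  rw [← inv_pow, Matrix.SpecialLinearGroup.coe_pow, Matrix.SpecialLinearGroup.coe_pow,
    ← add_pow_char_pow_of_commute p k hcomm, hsum, smul_pow, one_pow]

include p in
/-- An element of order prime to `p` in a torus of the field of order `p ^ k` has trace in that field. -/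
theorem trace_mem_fixField {g : SL2} {k : ℕ} (h : g ^ (p ^ k - 1) = 1 ∨ g ^ (p ^ k + 1) = 1) :
    g 0 0 + g 1 1 ∈ fixField p k := by
  have hp : 1 ≤ p ^ k := Nat.one_le_pow _ _ (Fact.out : p.Prime).pos
  have hsum : (g : Matrix (Fin 2) (Fin 2) F) + ((g⁻¹ : SL2) : Matrix (Fin 2) (Fin 2) F) =
      (g 0 0 + g 1 1) • (1 : Matrix (Fin 2) (Fin 2) F) := by
    rw [Matrix.SpecialLinearGroup.coe_inv, Matrix.adjugate_fin_two]
    ext i j
    fin_cases i <;> fin_cases j <;> simp [add_comm]
  have key := pow_add_inv_pow p g k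
  rcases h with h | h
  · rw [show g ^ p ^ k = g by rw [show p ^ k = (p ^ k - 1) + 1 by omega, pow_add, h, one_mul, pow_one]] at key
    rw [hsum] at key
    have := congrFun (congrFun key 0) 0
    simp at this
    exact (mem_fixField p).mpr this.symm
  · rw [pow_succ, mul_eq_one_iff_eq_inv] at h
    rw [h, inv_inv, add_comm, hsum] at key
    have := congrFun (congrFun key 0) 0
    simp at this
    exact (mem_fixField p).mpr this.symm

include p in
theorem trace_mem_of_two {g : SL2} {k : ℕ} (h : g 0 0 + g 1 1 = 2 ∨ g 0 0 + g 1 1 = -2) :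
    g 0 0 + g 1 1 ∈ fixField p k := by
  have h2 : (2 : F) ∈ fixField p k := by
    rw [← one_add_one_eq_two]; exact Subfield.add_mem _ (Subfield.one_mem _) (Subfield.one_mem _)
  rcases h with h | h <;> rw [h]
  exacts [h2, Subfield.neg_mem _ h2]

include p in
theorem trace_of_pow_char {g : SL2} (h : (QuotientGroup.mk g : PSL2) ^ p = 1) :
    g 0 0 + g 1 1 = 2 ∨ g 0 0 + g 1 1 = -2 := by
  have hp := (Fact.out : p.Prime)
  have hz : g ^ p ∈ Subgroup.center SL2 := by rwa [← QuotientGroup.mk_pow, QuotientGroup.eq_one_iff] at h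
  obtain ⟨z01, z10, z11⟩ := mem_center_sl hz
  have hd := (g ^ p).2
  rw [Matrix.det_fin_two, z01, z10, z11] at hd
  have hc : (g ^ p) 0 0 = 1 ∨ (g ^ p) 0 0 = -1 := mul_self_eq_one_iff.mp (by linear_combination hd)
  have key := pow_add_inv_pow p g 1
  rw [pow_one] at key
  generalize hG : g ^ p = G at hd hc key z11
  have h00 := congrFun (congrFun key 0) 0
  simp [Matrix.SpecialLinearGroup.coe_inv, Matrix.adjugate_fin_two, z11] at h00
  have hfr : ∀ a b : F, a ^ p = b ^ p → a = b := fun a b e => frobenius_inj F p e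
  have hneg : (-2 : F) ^ p = -2 := by
    rcases hp.eq_two_or_odd' with rfl | hodd
    · have h0 := CharP.cast_eq_zero F 2
      push_cast at h0
      rw [h0]; norm_num
    · rw [hodd.neg_pow]
      congr 1
      simpa [frobenius_def] using map_natCast (frobenius F p) 2
  have h2 : (2 : F) ^ p = 2 := by simpa [frobenius_def] using map_natCast (frobenius F p) 2
  rcases hc with hc | hc <;> rw [hc] at h00
  · left
    apply hfr
    rw [h2]
    linear_combination -h00
  · right
    apply hfr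
    rw [hneg]
    linear_combination -h00

variable {K : Type*} [Field K] [Fintype K]

include p in
theorem trace_mem_of_psl_exponent {g : SL2} {k : ℕ} (hpar : p ^ k % 2 = Fintype.card F % 2) {m : ℕ}
    (hm : (QuotientGroup.mk g : PSL2) ^ m = 1)
    (hcase : m = p ∨ m = (p ^ k - 1) / Nat.gcd 2 (p ^ k - 1) ∨ m = (p ^ k + 1) / Nat.gcd 2 (p ^ k - 1)) :
    g 0 0 + g 1 1 ∈ fixField p k := by
  rcases hcase with rfl | hcase
  · exact trace_mem_of_two _ (trace_of_pow_char _ hm)
  have hp1 : 1 ≤ p ^ k := Nat.one_le_pow _ _ (Fact.out : p.Prime).pos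
  set d := Nat.gcd 2 (p ^ k - 1) with hd
  have hd1 : d ∣ p ^ k - 1 := Nat.gcd_dvd_right _ _
  have hd2 : d ∣ p ^ k + 1 := by
    have := Nat.dvd_add hd1 (Nat.gcd_dvd_left 2 (p ^ k - 1))
    rwa [show p ^ k - 1 + 2 = p ^ k + 1 by omega] at this
  rw [← QuotientGroup.mk_pow, QuotientGroup.eq_one_iff] at hm
  have hzd : (g ^ m) ^ d = 1 := by
    obtain ⟨z01, z10, z11⟩ := mem_center_sl hm
    have hdet := (g ^ m).2
    rw [Matrix.det_fin_two, z01, z10, z11] at hdet
    rcases Nat.mod_two_eq_zero_or_one (p ^ k) with he | ho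
    · have hd' : d = 1 := by rw [hd, Nat.gcd_rec, show (p ^ k - 1) % 2 = 1 by omega]; rfl
      rw [hd', pow_one]
      haveI : CharP F 2 := by
        have h2 : 2 ∣ Fintype.card F := by omega
        obtain ⟨a, -, ha⟩ := FiniteField.card F p
        obtain rfl := (Nat.prime_dvd_prime_iff_eq Nat.prime_two Fact.out).mp
          (Nat.prime_two.dvd_of_dvd_pow (ha ▸ h2))
        infer_instance
      rw [Cfsg.Lib.Spec.center_eq_bot_of_char_two, Subgroup.mem_bot] at hm
      exact hm
    · have hd' : d = 2 := by rw [hd]; exact Nat.gcd_eq_left (by omega)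
      rw [hd', sq]
      apply Subtype.ext
      show ((g ^ m : SL2) : Matrix (Fin 2) (Fin 2) F) * ((g ^ m : SL2) : Matrix (Fin 2) (Fin 2) F) = 1
      rw [Matrix.eta_fin_two ((g ^ m : SL2) : Matrix (Fin 2) (Fin 2) F), z01, z10, z11, Matrix.mul_fin_two,
        Matrix.one_fin_two]
      ext i j
      fin_cases i <;> fin_cases j <;> simp <;> linear_combination hdet
  rw [← pow_mul] at hzd
  refine trace_mem_fixField p ?_
  rcases hcase with rfl | rfl
  · exact Or.inl (by rwa [Nat.div_mul_cancel hd1] at hzd)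
  · exact Or.inr (by rwa [Nat.div_mul_cancel hd2] at hzd)

include p in
theorem trace_mem_of_iso_psl {M : Subgroup (Matrix.ProjectiveSpecialLinearGroup (Fin 2) F)} [CharP K p] {k : ℕ}
    (hK : Fintype.card K = p ^ k) (hpar : p ^ k % 2 = Fintype.card F % 2)
    (e : M ≃* Matrix.ProjectiveSpecialLinearGroup (Fin 2) K) {g : SL2} (hg : (QuotientGroup.mk g : PSL2) ∈ M) :
    g 0 0 + g 1 1 ∈ fixField p k := by
  have hback : ∀ m : ℕ, (e ⟨_, hg⟩) ^ m = 1 → (QuotientGroup.mk g : PSL2) ^ m = 1 := by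
    intro m hm
    rw [← map_pow, ← map_one e] at hm
    exact congrArg Subtype.val (e.injective hm)
  have h := Cfsg.Lib.Spec.psl_two_exponents p (e ⟨_, hg⟩)
  rw [hK] at h
  rcases h with h | h | h
  · exact trace_mem_of_psl_exponent p hpar (hback _ h) (Or.inl rfl)
  · exact trace_mem_of_psl_exponent p hpar (hback _ h) (Or.inr (Or.inl rfl))
  · exact trace_mem_of_psl_exponent p hpar (hback _ h) (Or.inr (Or.inr rfl))

theorem sq_mem_range_toPGL (y : Matrix.ProjGenLinGroup (Fin 2) K) :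
    ∃ s : Matrix.ProjectiveSpecialLinearGroup (Fin 2) K, Matrix.ProjectiveSpecialLinearGroup.toPGL s = y ^ 2 := by
  induction y using Matrix.ProjGenLinGroup.induction_on with | mk U => ?_
  set δ : Kˣ := Matrix.GeneralLinearGroup.det U
  let A : SpecialLinearGroup (Fin 2) K := ⟨((δ⁻¹ : Kˣ) : K) • ((U : Matrix (Fin 2) (Fin 2) K) ^ 2), by
    rw [Matrix.det_smul, Matrix.det_pow, Fintype.card_fin,
      show (U : Matrix (Fin 2) (Fin 2) K).det = (δ : K) from rfl, ← mul_pow, Units.inv_mul, one_pow]⟩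
  refine ⟨QuotientGroup.mk A, ?_⟩
  rw [ProjectiveSpecialLinearGroup.toPGL_mk, ← map_pow, ProjGenLinGroup.mk_eq_mk_iff]
  refine ⟨δ, Units.ext ?_⟩
  simp [A, SpecialLinearGroup.toGL, GeneralLinearGroup.coe_scalar, ← Matrix.smul_one_eq_diagonal]

include p in
theorem trace_mem_of_iso_pgl {M : Subgroup (Matrix.ProjectiveSpecialLinearGroup (Fin 2) F)} [CharP K p] {k : ℕ}
    (hK : Fintype.card K = p ^ k) (hpar : p ^ k % 2 = Fintype.card F % 2)
    (e : M ≃* Matrix.ProjGenLinGroup (Fin 2) K) {g : SL2} (hg : (QuotientGroup.mk g : PSL2) ∈ M) :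
    g 0 0 + g 1 1 ∈ fixField p (2 * k) ∧ (g 0 0 + g 1 1) ^ 2 ∈ fixField p k := by
  obtain ⟨s, hs⟩ := sq_mem_range_toPGL (e ⟨_, hg⟩)
  have hback : ∀ m : ℕ, s ^ m = 1 → (QuotientGroup.mk (g * g) : PSL2) ^ m = 1 := by
    intro m hm
    have h := congrArg Matrix.ProjectiveSpecialLinearGroup.toPGL hm
    rw [map_pow, hs, map_one, ← map_pow, ← map_pow, ← map_one e] at h
    have := congrArg Subtype.val (e.injective h)
    rw [Subgroup.coe_pow, Subgroup.coe_pow, Subgroup.coe_one, sq] at this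
    rwa [QuotientGroup.mk_mul]
  have ht : (g * g) 0 0 + (g * g) 1 1 ∈ fixField p k := by
    have h := Cfsg.Lib.Spec.psl_two_exponents p s
    rw [hK] at h
    rcases h with h | h | h
    · exact trace_mem_of_psl_exponent p hpar (hback _ h) (Or.inl rfl)
    · exact trace_mem_of_psl_exponent p hpar (hback _ h) (Or.inr (Or.inl rfl))
    · exact trace_mem_of_psl_exponent p hpar (hback _ h) (Or.inr (Or.inr rfl))
  have hd := g.2
  rw [Matrix.det_fin_two] at hd
  have h2 : (g 0 0 + g 1 1) ^ 2 ∈ fixField p k := by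
    have h2' : (2 : F) ∈ fixField p k := by
      rw [← one_add_one_eq_two]; exact Subfield.add_mem _ (Subfield.one_mem _) (Subfield.one_mem _)
    convert Subfield.add_mem _ ht h2' using 1
    simp only [Matrix.SpecialLinearGroup.coe_mul, Matrix.mul_apply, Fin.sum_univ_two]
    linear_combination 2 * hd
  refine ⟨(mem_fixField p).mpr ?_, h2⟩
  have h := (mem_fixField p).mp h2
  rw [← pow_mul, mul_comm, pow_mul] at h
  rcases sq_eq_sq_iff_eq_or_eq_neg.mp h with h' | h'
  · rw [two_mul, pow_add, pow_mul, h', h']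
  · rw [two_mul, pow_add, pow_mul, h']
    rcases Nat.even_or_odd (p ^ k) with he | ho
    · rw [he.neg_pow, h']
      have h20 : (2 : F) = 0 := by
        obtain rfl := (Nat.prime_dvd_prime_iff_eq Nat.prime_two (Fact.out : p.Prime)).mp
          (Nat.prime_two.dvd_of_dvd_pow he.two_dvd)
        exact_mod_cast CharP.cast_eq_zero F 2
      linear_combination -(g 0 0 + g 1 1) * h20
    · rw [ho.neg_pow, h', neg_neg]

end Cfsg.Lib.Dickson
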