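import Cfsg.Agent.Lib.Dickson.Maximal.FourCase
import Cfsg.Agent.S0253

/-!
# When `A₅` is maximal in `PSL(2, q)`
-/

set_option autoImplicit false
set_option linter.unusedSectionVars false

open Matrix
open scoped MatrixGroups

namespace Cfsg.Lib.Dickson

variable {F : Type*} [Field F] [Fintype F]

local notation "SL2" => Matrix.SpecialLinearGroup (Fin 2) F
local notation "PSL2" => Matrix.ProjectiveSpecialLinearGroup (Fin 2) F

theorem five_four_points : ∃ a b : alternatingGroup (Fin 5),
    a * a = 1 ∧ b * b = 1 ∧ a * b = b * a ∧ a ≠ 1 ∧ b ≠ 1 ∧ a ≠ b := by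
  obtain ⟨j, hj⟩ := exists_alternating_four_le_five
  obtain ⟨ha, hb, va, vb, vab, va1, vb1, vne⟩ := vA_vB
  refine ⟨j ⟨vA, Equiv.Perm.mem_alternatingGroup.mpr ha.2⟩, j ⟨vB, Equiv.Perm.mem_alternatingGroup.mpr hb.2⟩,
    ?_, ?_, ?_, ?_, ?_, ?_⟩
  · rw [← map_mul, ← map_one j]; exact congrArg j (Subtype.ext va)
  · rw [← map_mul, ← map_one j]; exact congrArg j (Subtype.ext vb)
  · rw [← map_mul, ← map_mul]; exact congrArg j (Subtype.ext vab)
  · exact fun h => va1 (congrArg Subtype.val (hj (h.trans (map_one j).symm)))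
  · exact fun h => vb1 (congrArg Subtype.val (hj (h.trans (map_one j).symm)))
  · exact fun h => vne (congrArg Subtype.val (hj h))

theorem alternating_five_case (p : ℕ) [Fact p.Prime] [CharP F p] (hp2 : p ≠ 2) {n : ℕ}
    (hn : Fintype.card F = p ^ n) (hn0 : 0 < n) (h5 : 5 ≤ Fintype.card F)
    {M : Subgroup (Matrix.ProjectiveSpecialLinearGroup (Fin 2) F)} (hM : IsCoatom M)
    (e : M ≃* alternatingGroup (Fin 5)) :
    ((Fintype.card F % 10 = 1 ∨ Fintype.card F % 10 = 9) ∧
        (Fintype.card F = p ∨ (Fintype.card F = p ^ 2 ∧ (p % 10 = 3 ∨ p % 10 = 7)))) ∨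
      (∃ (F₀ : Type) (_ : Field F₀) (_ : Fintype F₀) (r : ℕ), r.Prime ∧ Odd r ∧
        Fintype.card F = Fintype.card F₀ ^ r ∧
          Nonempty (M ≃* Matrix.ProjectiveSpecialLinearGroup (Fin 2) F₀)) := by
  classical
  have hp := (Fact.out : p.Prime)
  have hpodd : p % 2 = 1 := hp.eq_two_or_odd.resolve_left hp2
  have hqodd : Fintype.card F % 2 = 1 := by rw [hn, Nat.pow_mod, hpodd, one_pow]; rfl
  have h2F : (2 : F) ≠ 0 := two_ne_zero_of_odd hqodd
  have hcM : Nat.card M = 60 := card_target_five e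
  obtain ⟨a, b, ha, hb, hab, ha1, hb1, habne⟩ := five_four_points
  obtain ⟨x, y, -, -, hxM, hyM, hx2, hy2, hxy, hx1, hy1, hne⟩ := exists_four_points e a b ha hb hab ha1 hb1 habne
  have hexp : ∀ g : SL2, (QuotientGroup.mk g : PSL2) ∈ M → g 0 0 + g 1 1 ∈ fixField p 1 ∨
      (g 0 0 + g 1 1) ^ 2 - (g 0 0 + g 1 1) - 1 = 0 ∨ (g 0 0 + g 1 1) ^ 2 + (g 0 0 + g 1 1) - 1 = 0 := by
    intro g hg
    rcases alternating_five_exponents (e ⟨_, hg⟩) with h | h | h
    · exact Or.inl (trace_exponent_two_three p 1 (Or.inl (back_pow e hg h)))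
    · exact Or.inl (trace_exponent_two_three p 1 (Or.inr (back_pow e hg h)))
    · rcases trace_of_exponent (k := 4) (back_pow e hg h) with ht | ht
      · exact Or.inl (trace_mem_of_two p ht)
      · simp [Cfsg.Lib.Spec.chCoef] at ht
        have hprod : ((g 0 0 + g 1 1) ^ 2 - (g 0 0 + g 1 1) - 1) * ((g 0 0 + g 1 1) ^ 2 + (g 0 0 + g 1 1) - 1) = 0 := by
          linear_combination ht
        exact Or.inr (mul_eq_zero.mp hprod)
  have hres5 : p % 5 = 0 ∨ p % 5 = 1 ∨ p % 5 = 4 ∨ p % 5 = 2 ∨ p % 5 = 3 := by omega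
  by_cases hsq : p % 5 = 0 ∨ p % 5 = 1 ∨ p % 5 = 4
  · -- five is a square modulo `p`
    obtain ⟨s, hsp, hs⟩ : ∃ s : F, s ^ p = s ∧ s * s = 5 := by
      obtain ⟨r, hr⟩ : IsSquare (5 : ZMod p) := by
        rcases hsq with h | h
        · obtain rfl : p = 5 := ((Nat.prime_dvd_prime_iff_eq (by norm_num) hp).mp (Nat.dvd_of_mod_eq_zero h)).symm
          exact ⟨0, rfl⟩
        · haveI : Fact (Nat.Prime 5) := ⟨by norm_num⟩
          have h' := (ZMod.exists_sq_eq_prime_iff_of_mod_four_eq_one (p := 5) (q := p) (by norm_num) hp2).mp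
          rw [show (5 : ZMod p) = ((5 : ℕ) : ZMod p) by norm_num]
          refine h' ?_
          rw [← ZMod.natCast_mod p 5]
          rcases h with h | h <;> rw [h]
          · exact ⟨1, rfl⟩
          · exact ⟨2, rfl⟩
      refine ⟨ZMod.castHom dvd_rfl F r, by rw [← map_pow, ZMod.pow_card], ?_⟩
      rw [← map_mul, ← hr, map_ofNat]
    have hsm : s ∈ fixField (F := F) p 1 := (mem_fixField p).mpr (by rw [pow_one]; exact hsp)
    have h1m := Subfield.one_mem (fixField (F := F) p 1)
    have htr : ∀ g : SL2, (QuotientGroup.mk g : PSL2) ∈ M → g 0 0 + g 1 1 ∈ fixField p 1 := by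
      intro g hg
      have key : ∀ u : F, u * u = 5 → u ∈ fixField p 1 := fun u hu => by
        rcases mul_self_eq_mul_self_iff.mp (hu.trans hs.symm) with h | h <;> rw [h]
        exacts [hsm, Subfield.neg_mem _ hsm]
      rcases hexp g hg with h | h | h
      · exact h
      · have hm := key (2 * (g 0 0 + g 1 1) - 1) (by linear_combination 4 * h)
        have := Subfield.mul_mem _ (Subfield.inv_mem _ (two_mem_fix p 1)) (Subfield.add_mem _ hm h1m)
        rwa [sub_add_cancel, inv_mul_cancel_left₀ h2F] at this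
      · have hm := key (2 * (g 0 0 + g 1 1) + 1) (by linear_combination 4 * h)
        have := Subfield.mul_mem _ (Subfield.inv_mem _ (two_mem_fix p 1)) (Subfield.sub_mem _ hm h1m)
        rwa [add_sub_cancel_right, inv_mul_cancel_left₀ h2F] at this
    by_cases hn1 : n = 1
    · subst hn1
      rw [pow_one] at hn
      left
      refine ⟨?_, Or.inl hn⟩
      rcases hsq with h | h | h
      · exfalso
        obtain rfl : p = 5 := ((Nat.prime_dvd_prime_iff_eq (by norm_num) hp).mp (Nat.dvd_of_mod_eq_zero h)).symm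
        refine hM.1 (Subgroup.eq_top_of_card_eq M ?_)
        have hG := two_mul_card_psl (F := F) hqodd
        rw [hn] at hG
        rw [show (5 : ℕ) * (5 ^ 2 - 1) = 120 by rfl] at hG
        omega
      all_goals omega
    · right
      obtain ⟨hc, hpr, hod⟩ := subfield_max_small p (by omega) hn (one_dvd n) (by omega) hM h2F hxM hyM hx2 hy2
        hxy hx1 hy1 hne htr
      rw [hcM, pow_one] at hc
      obtain rfl : p = 5 := by
        rcases Nat.lt_or_ge p 6 with h | h
        · interval_cases p <;> omega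
        · have h1 := Nat.pow_le_pow_left h 2
          have := Nat.mul_le_mul h (show 35 ≤ p ^ 2 - 1 by omega)
          omega
      obtain ⟨f⟩ := Cfsg.Agent.S0253.result (F := ZMod 5) (ZMod.card 5)
      rw [Nat.div_one] at hpr hod
      exact ⟨ZMod 5, inferInstance, inferInstance, n, hpr, hod hp2, by rw [hn, ZMod.card], ⟨e.trans f.symm⟩⟩
  left
  have h23 : p % 5 = 2 ∨ p % 5 = 3 := by omega
  have htr : ∀ g : SL2, (QuotientGroup.mk g : PSL2) ∈ M → g 0 0 + g 1 1 ∈ fixField p 2 := by
    intro g hg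
    have hh := hexp g hg
    generalize g 0 0 + g 1 1 = t at hh ⊢
    have hfr : ∀ u : F, frobenius F p u = u ^ p := fun u => rfl
    rcases hh with h | h | h
    · exact fixField_mono p (one_dvd 2) h
    all_goals
      rw [mem_fixField, sq p, pow_mul]
      have h' := congrArg (frobenius F p) h
      simp only [map_sub, map_add, map_one, map_zero, map_pow] at h'
      simp only [hfr] at h'
    · have hfac : (t ^ p - t) * (t ^ p + t - 1) = 0 := by linear_combination h' - h
      rcases mul_eq_zero.mp hfac with e' | e'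
      · rw [sub_eq_zero.mp e', sub_eq_zero.mp e']
      · have e'' : t ^ p = 1 - t := by linear_combination e'
        rw [e'', sub_pow_char, one_pow, e'']; ring
    · have hfac : (t ^ p - t) * (t ^ p + t + 1) = 0 := by linear_combination h' - h
      rcases mul_eq_zero.mp hfac with e' | e'
      · rw [sub_eq_zero.mp e', sub_eq_zero.mp e']
      · have e'' : t ^ p = -1 - t := by linear_combination e'
        rw [e'', sub_pow_char, (hp.odd_of_ne_two hp2).neg_pow, one_pow, e'']; ring
  have h5d := five_dvd_of_alternating_five e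
  have hneven : Even n := by
    by_contra hodd
    rw [Nat.not_even_iff_odd] at hodd
    obtain ⟨j, rfl⟩ := hodd
    have hq : Fintype.card F % 5 = 2 ∨ Fintype.card F % 5 = 3 := by
      have hp4 : p ^ 2 % 5 = 4 := by rw [Nat.pow_mod]; rcases h23 with h | h <;> rw [h]
      rw [hn, pow_succ, pow_mul, Nat.mul_mod, Nat.pow_mod, hp4]
      rcases Nat.even_or_odd j with ⟨i, rfl⟩ | ⟨i, rfl⟩
      · rw [← two_mul, pow_mul, Nat.pow_mod]; norm_num; omega
      · rw [pow_succ, pow_mul, Nat.mul_mod ((4 ^ 2) ^ i), Nat.pow_mod]; norm_num; omega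
    have h5' : (Fintype.card F * (Fintype.card F ^ 2 - 1)) % 5 = 0 := Nat.mod_eq_zero_of_dvd h5d
    have hs : (Fintype.card F ^ 2) % 5 = 4 := by
      rw [Nat.pow_mod]; rcases hq with hq | hq <;> rw [hq]
    rw [Nat.mul_mod, show (Fintype.card F ^ 2 - 1) % 5 = 3 by omega] at h5'
    rcases hq with hq | hq <;> rw [hq] at h5' <;> norm_num at h5'
  obtain ⟨l, hl⟩ := hneven
  by_cases hn2 : n = 2
  · subst hn2
    have h10 : p % 10 = 3 ∨ p % 10 = 7 := by omega
    refine ⟨Or.inr ?_, Or.inr ⟨hn, h10⟩⟩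
    rw [hn, Nat.pow_mod]
    rcases h10 with h | h <;> rw [h]
  · exfalso
    obtain ⟨hc, -, -⟩ := subfield_max_small p (by omega) hn ⟨l, by omega⟩ (show 2 < n by omega) hM h2F hxM hyM
      hx2 hy2 hxy hx1 hy1 hne htr
    rw [hcM] at hc
    have h3 : 3 ≤ p := by have := hp.two_le; omega
    have h9 : 9 ≤ p ^ 2 := by have := Nat.pow_le_pow_left h3 2; omega
    have := Nat.pow_le_pow_left h9 2
    have := Nat.mul_le_mul h9 (show 80 ≤ (p ^ 2) ^ 2 - 1 by omega)
    omega

end Cfsg.Lib.Dickson
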