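import Cfsg.Agent.Lib.Dickson.Maximal.SmallGroups

/-!
# When `A₄` is maximal in `PSL(2, q)`
-/

set_option autoImplicit false
set_option linter.unusedSectionVars false

open Matrix
open scoped MatrixGroups

namespace Cfsg.Lib.Dickson

variable {F : Type*} [Field F] [Fintype F]

local notation "SL2" => Matrix.SpecialLinearGroup (Fin 2) F
local notation "PSL2" => Matrix.ProjectiveSpecialLinearGroup (Fin 2) F

theorem two_mul_card_psl (hodd : Fintype.card F % 2 = 1) :
    2 * Nat.card PSL2 = Fintype.card F * (Fintype.card F ^ 2 - 1) := card_psl_mul hodd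

theorem alternating_four_case (p : ℕ) [Fact p.Prime] [CharP F p] (hp2 : p ≠ 2) {n : ℕ}
    (hn : Fintype.card F = p ^ n) (hn0 : 0 < n) (h5 : 5 ≤ Fintype.card F)
    {M : Subgroup (Matrix.ProjectiveSpecialLinearGroup (Fin 2) F)} (hM : IsCoatom M)
    (e : M ≃* alternatingGroup (Fin 4)) :
    (Fintype.card F = p ∧ (p % 8 = 3 ∨ p % 8 = 5) ∧ ¬ (p % 10 = 1 ∨ p % 10 = 9)) ∨
      (∃ (F₀ : Type) (_ : Field F₀) (_ : Fintype F₀) (r : ℕ), r.Prime ∧ Odd r ∧
        Fintype.card F = Fintype.card F₀ ^ r ∧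
          Nonempty (M ≃* Matrix.ProjectiveSpecialLinearGroup (Fin 2) F₀)) := by
  classical
  haveI : Finite PSL2 := inferInstance
  have hp := (Fact.out : p.Prime)
  have hqodd : Fintype.card F % 2 = 1 := by
    rw [hn, Nat.pow_mod, hp.eq_two_or_odd.resolve_left hp2, one_pow]; rfl
  have h2F : (2 : F) ≠ 0 := two_ne_zero_of_odd hqodd
  have hcM : Nat.card M = 12 := card_target_four e
  let a : alternatingGroup (Fin 4) := ⟨vA, Equiv.Perm.mem_alternatingGroup.mpr vA_vB.1.2⟩
  let b : alternatingGroup (Fin 4) := ⟨vB, Equiv.Perm.mem_alternatingGroup.mpr vA_vB.2.1.2⟩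
  obtain ⟨-, -, va, vb, vab, va1, vb1, vne⟩ := vA_vB
  obtain ⟨x, y, -, -, hxM, hyM, hx2, hy2, hxy, hx1, hy1, hne⟩ := exists_four_points e a b (Subtype.ext va)
    (Subtype.ext vb) (Subtype.ext vab) (fun h => va1 (congrArg Subtype.val h))
    (fun h => vb1 (congrArg Subtype.val h)) (fun h => vne (congrArg Subtype.val h))
  have htr : ∀ g : SL2, (QuotientGroup.mk g : PSL2) ∈ M → g 0 0 + g 1 1 ∈ fixField p 1 := by
    intro g hg
    refine trace_exponent_two_three p 1 ?_
    have hs := (sign_four_exponents (e ⟨_, hg⟩ : alternatingGroup (Fin 4))).1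
      (Equiv.Perm.mem_alternatingGroup.mp (e ⟨_, hg⟩).2)
    exact hs.imp (fun h => back_pow e hg (Subtype.ext h)) (fun h => back_pow e hg (Subtype.ext h))
  by_cases hn1 : n = 1
  swap
  · right
    obtain ⟨hc, hpr, hod⟩ := subfield_max_small p (by omega) hn (one_dvd n) (by omega) hM h2F hxM hyM hx2 hy2 hxy
      hx1 hy1 hne htr
    rw [hcM, pow_one] at hc
    obtain rfl : p = 3 := by
      rcases Nat.lt_or_ge p 4 with h | h
      · have := hp.two_le; omega
      · have h1 := Nat.pow_le_pow_left h 2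
        have := Nat.mul_le_mul h (show 15 ≤ p ^ 2 - 1 by omega)
        omega
    haveI : Finite (Matrix.ProjectiveSpecialLinearGroup (Fin 2) (ZMod 3)) := inferInstance
    obtain ⟨f⟩ := Cfsg.Lib.Linear.Two.psl_equiv_alternating (F := ZMod 3) (n := 4) (by rw [ZMod.card]) (by
      have h := Cfsg.Lib.Linear.Two.card_PSL_two (F := ZMod 3)
      rw [ZMod.card] at h
      norm_num [Nat.factorial] at h ⊢
      omega)
    rw [Nat.div_one] at hpr hod
    exact ⟨ZMod 3, inferInstance, inferInstance, n, hpr, hod hp2, by rw [hn, ZMod.card], ⟨e.trans f.symm⟩⟩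
  left
  subst hn1
  rw [pow_one] at hn
  -- the four-group
  let R : Subgroup PSL2 := ((fourFour.comap (alternatingGroup (Fin 4)).subtype).comap e.toMonoidHom).map M.subtype
  have hRle : R ≤ M := Subgroup.map_subtype_le _
  have hcR : Nat.card R = 4 := by
    rw [← card_fourFour, ← Nat.card_congr (Subgroup.equivMapOfInjective _ M.subtype M.subtype_injective).toEquiv]
    refine Nat.card_congr
      { toFun := fun u => ⟨((e u.1 : alternatingGroup (Fin 4)) : Equiv.Perm (Fin 4)), u.2⟩
        invFun := fun v => ⟨e.symm ⟨v.1, Equiv.Perm.mem_alternatingGroup.mpr v.2.2⟩, by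
          show (e (e.symm ⟨v.1, _⟩) : Equiv.Perm (Fin 4)) ∈ fourFour
          rw [e.apply_symm_apply]; exact v.2⟩
        left_inv := fun u => Subtype.ext (e.symm_apply_apply u.1)
        right_inv := fun v => Subtype.ext (by simp) }
  have hMN : M = Subgroup.normalizer (R : Set PSL2) := by
    have hle : M ≤ Subgroup.normalizer (R : Set PSL2) := by
      intro m hm
      rw [Subgroup.mem_normalizer_iff]
      have hfor : ∀ m : M, ∀ z ∈ R, (m : PSL2) * z * (m : PSL2)⁻¹ ∈ R := by
        rintro m _ ⟨u, hu, rfl⟩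
        exact ⟨m * u * m⁻¹, Subgroup.Normal.conj_mem inferInstance u hu m, rfl⟩
      intro z
      refine ⟨hfor ⟨m, hm⟩ z, fun hz => ?_⟩
      have := hfor (⟨m, hm⟩ : M)⁻¹ _ hz
      simpa [mul_assoc] using this
    rcases eq_or_lt_of_le hle with h | h
    · exact h
    · refine absurd (hM.2 _ h) (normalizer_ne_top (by omega) ?_ ?_)
      · intro hb; rw [hb, Subgroup.card_bot] at hcR; norm_num at hcR
      · intro ht; exact hM.1 (top_le_iff.mp (ht ▸ hRle))
  have h8 : ¬ 8 ∣ Nat.card PSL2 := by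
    intro h8
    haveI := Fact.mk Nat.prime_two
    obtain ⟨S, hS, hRS⟩ := Sylow.exists_subgroup_card_pow_succ (p := 2) (n := 2) (show 2 ^ (2 + 1) ∣ Nat.card PSL2 from h8)
      (show Nat.card R = 2 ^ 2 by rw [hcR]; rfl)
    haveI : (R.subgroupOf S).Normal := by
      refine Subgroup.normal_of_index_eq_two ?_
      have h := Subgroup.card_mul_index (R.subgroupOf S)
      rw [Nat.card_congr (Subgroup.subgroupOfEquivOfLe hRS).toEquiv, hcR, hS] at h
      norm_num at h
      omega
    have hSN : S ≤ M := by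
      rw [hMN]
      intro s hs
      rw [Subgroup.mem_normalizer_iff]
      intro z
      constructor
      · intro hz
        exact Subgroup.mem_subgroupOf.mp
          (Subgroup.Normal.conj_mem inferInstance ⟨z, hRS hz⟩ (Subgroup.mem_subgroupOf.mpr hz) ⟨s, hs⟩)
      · intro hz
        have h' := Subgroup.mem_subgroupOf.mp
          (Subgroup.Normal.conj_mem inferInstance (⟨_, hRS hz⟩ : S) (Subgroup.mem_subgroupOf.mpr hz)
            (⟨s, hs⟩ : S)⁻¹)
        simpa [mul_assoc] using h'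
    have h' := Subgroup.card_dvd_of_le hSN
    rw [hS, hcM] at h'
    norm_num at h'
  have hG := two_mul_card_psl (F := F) hqodd
  rw [hn] at hqodd hG h5
  have h38 : p % 8 = 3 ∨ p % 8 = 5 := by
    by_contra hne8
    have h18 : p % 8 = 1 ∨ p % 8 = 7 := by omega
    have h16 : 16 ∣ p ^ 2 - 1 := by
      have h1 : p ^ 2 % 16 = 1 := by
        rw [Nat.pow_mod]
        rcases (show p % 16 = 1 ∨ p % 16 = 7 ∨ p % 16 = 9 ∨ p % 16 = 15 by omega) with h | h | h | h <;> rw [h]
      omega
    obtain ⟨c, hc⟩ := h16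
    exact h8 ⟨p * c, Nat.eq_of_mul_eq_mul_left two_pos (by rw [hG, hc]; ring)⟩
  refine ⟨hn, h38, fun h10 => ?_⟩
  -- inside a subgroup isomorphic to `A₅`
  have h5d : 5 ∣ Fintype.card F * (Fintype.card F ^ 2 - 1) := by
    refine Dvd.dvd.mul_left ?_ _
    rw [hn]
    have : p ^ 2 % 5 = 1 := by
      rw [Nat.pow_mod]
      rcases (show p % 5 = 1 ∨ p % 5 = 4 by omega) with h | h <;> rw [h]
    omega
  obtain ⟨B, ⟨f⟩⟩ := (Cfsg.Agent.S0804.result (F := F) rfl).mpr h5d
  obtain ⟨j, hj⟩ := exists_alternating_four_le_five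
  let i : alternatingGroup (Fin 4) →* PSL2 := B.subtype.comp (f.symm.toMonoidHom.comp j)
  have hi : Function.Injective i := B.subtype_injective.comp (f.symm.injective.comp hj)
  have hiB : i.range ≤ B := by rintro _ ⟨u, rfl⟩; exact (f.symm (j u)).2
  let R' : Subgroup PSL2 := (fourFour.comap (alternatingGroup (Fin 4)).subtype).map i
  have hcR' : Nat.card R' = 4 := by
    rw [← card_fourFour, ← Nat.card_congr (Subgroup.equivMapOfInjective _ i hi).toEquiv]
    exact Nat.card_congr
      { toFun := fun u => ⟨((u.1 : alternatingGroup (Fin 4)) : Equiv.Perm (Fin 4)), u.2⟩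
        invFun := fun v => ⟨⟨v.1, Equiv.Perm.mem_alternatingGroup.mpr v.2.2⟩, v.2⟩ }
  haveI := Fact.mk Nat.prime_two
  have hsyl : ∀ W : Subgroup PSL2, Nat.card W = 4 → ∃ S : Sylow 2 PSL2, (S : Subgroup PSL2) = W := by
    intro W hW
    have hWp : IsPGroup 2 W := IsPGroup.of_card (n := 2) hW
    obtain ⟨S, hS⟩ := hWp.exists_le_sylow
    refine ⟨S, (Subgroup.eq_of_le_of_card_ge hS ?_).symm⟩
    obtain ⟨l, hl⟩ := IsPGroup.iff_card.mp S.2
    rw [hl, hW]
    by_contra hlt
    have h3 : 3 ≤ l := by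
      by_contra hl3
      have := Nat.pow_le_pow_right two_pos (show l ≤ 2 by omega)
      omega
    exact h8 ((Nat.pow_dvd_pow 2 h3).trans (hl ▸ Subgroup.card_subgroup_dvd_card _))
  obtain ⟨S, hS⟩ := hsyl R hcR
  obtain ⟨S', hS'⟩ := hsyl R' hcR'
  obtain ⟨g, hg⟩ := MulAction.exists_smul_eq PSL2 S' S
  have hmap : R'.map (MulAut.conj g).toMonoidHom = R := by
    rw [← hS', ← hS, ← hg, Sylow.coe_subgroup_smul]
    rfl
  have hle : i.range.map (MulAut.conj g).toMonoidHom ≤ M := by
    rw [hMN]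
    rintro _ ⟨_, ⟨u, rfl⟩, rfl⟩
    rw [Subgroup.mem_normalizer_iff]
    have hfor : ∀ u : alternatingGroup (Fin 4), ∀ z ∈ R,
        MulAut.conj g (i u) * z * (MulAut.conj g (i u))⁻¹ ∈ R := by
      intro u z hz
      rw [← hmap] at hz ⊢
      obtain ⟨_, ⟨v, hv, rfl⟩, rfl⟩ := hz
      refine ⟨i (u * v * u⁻¹), ⟨_, Subgroup.Normal.conj_mem inferInstance v hv u, rfl⟩, ?_⟩
      show MulAut.conj g (i (u * v * u⁻¹)) = MulAut.conj g (i u) * MulAut.conj g (i v) * (MulAut.conj g (i u))⁻¹
      simp only [map_mul, map_inv]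
    intro z
    refine ⟨hfor u z, fun hz => ?_⟩
    have := hfor u⁻¹ _ hz
    simpa [mul_assoc] using this
  have heq : i.range.map (MulAut.conj g).toMonoidHom = M := by
    refine Subgroup.eq_of_le_of_card_ge hle ?_
    rw [hcM, ← Nat.card_congr (Subgroup.equivMapOfInjective _ _ (MulAut.conj g).injective).toEquiv,
      ← Nat.card_congr (MonoidHom.ofInjective hi).toEquiv]
    exact (card_target_four (MulEquiv.refl _)).ge
  have hB : Nat.card (B.map (MulAut.conj g).toMonoidHom) = 60 := by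
    rw [← Nat.card_congr (Subgroup.equivMapOfInjective _ _ (MulAut.conj g).injective).toEquiv]
    exact card_target_five f
  have hlt : M < B.map (MulAut.conj g).toMonoidHom := by
    refine lt_of_le_of_ne (heq ▸ Subgroup.map_mono hiB) fun h => ?_
    rw [← h, hcM] at hB
    norm_num at hB
  rw [hM.2 _ hlt, Subgroup.card_top] at hB
  rw [hB] at hG
  have h11 : 11 ≤ p := by
    by_contra hlt'
    interval_cases p <;> omega
  have h1 := Nat.pow_le_pow_left h11 2
  have := Nat.mul_le_mul h11 (show 120 ≤ p ^ 2 - 1 by omega)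
  omega

end Cfsg.Lib.Dickson
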