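import Cfsg.Agent.Lib.Dickson.Maximal.PermFourCase
import Cfsg.Agent.Lib.Dickson.Maximal.FiveCase
import Cfsg.Agent.Lib.Dickson.Maximal.Exclusion
import Cfsg.Agent.Lib.Dickson.SubfieldPGL

/-!
# The maximal subgroups of `PSL(2, q)`, `q` odd
-/

set_option autoImplicit false
set_option linter.unusedSectionVars false

open Matrix
open scoped MatrixGroups

namespace Cfsg.Lib.Dickson

theorem maximal_types_odd {F : Type*} [Field F] [Fintype F] (p : ℕ)
    [Fact p.Prime] [CharP F p] (hodd : Odd (Fintype.card F)) (h5 : 5 ≤ Fintype.card F)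
    (M : Subgroup (Matrix.ProjectiveSpecialLinearGroup (Fin 2) F)) (hM : IsCoatom M) :
    2 * Nat.card M = Fintype.card F * (Fintype.card F - 1) ∨
    (13 ≤ Fintype.card F ∧ (∃ k : ℕ, 2 * k = Fintype.card F - 1 ∧ Nonempty (M ≃* DihedralGroup k))) ∨
    (Fintype.card F ≠ 7 ∧ Fintype.card F ≠ 9 ∧
      (∃ k : ℕ, 2 * k = Fintype.card F + 1 ∧ Nonempty (M ≃* DihedralGroup k))) ∨
    (∃ (F₀ : Type) (_ : Field F₀) (_ : Fintype F₀), Fintype.card F = Fintype.card F₀ ^ 2 ∧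
        Nonempty (M ≃* Matrix.ProjGenLinGroup (Fin 2) F₀)) ∨
    (∃ (F₀ : Type) (_ : Field F₀) (_ : Fintype F₀) (r : ℕ), r.Prime ∧ Odd r ∧
        Fintype.card F = Fintype.card F₀ ^ r ∧
        Nonempty (M ≃* Matrix.ProjectiveSpecialLinearGroup (Fin 2) F₀)) ∨
    ((Fintype.card F % 10 = 1 ∨ Fintype.card F % 10 = 9) ∧
        (Fintype.card F = p ∨ (Fintype.card F = p ^ 2 ∧ (p % 10 = 3 ∨ p % 10 = 7))) ∧
        Nonempty (M ≃* alternatingGroup (Fin 5))) ∨
    (Fintype.card F = p ∧ (p % 8 = 3 ∨ p % 8 = 5) ∧ ¬ (p % 10 = 1 ∨ p % 10 = 9) ∧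
        Nonempty (M ≃* alternatingGroup (Fin 4))) ∨
    (Fintype.card F = p ∧ (p % 8 = 1 ∨ p % 8 = 7) ∧ Nonempty (M ≃* Equiv.Perm (Fin 4))) := by
  classical
  have hp := (Fact.out : p.Prime)
  obtain ⟨n', -, hn'⟩ := FiniteField.card F p
  set n : ℕ := (n' : ℕ) with hndef
  have hn0 : 0 < n := n'.pos
  have hn : Fintype.card F = p ^ n := hn'
  have hqodd : Fintype.card F % 2 = 1 := Nat.odd_iff.mp hodd
  have hp2 : p ≠ 2 := by
    rintro rfl
    rw [hn, Nat.pow_mod, Nat.mod_self, zero_pow hn0.ne'] at hqodd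
    omega
  have hd : Nat.gcd 2 (Fintype.card F - 1) = 2 := Nat.gcd_eq_left (by omega)
  have h4 : 4 ≤ Fintype.card F := by omega
  by_cases hN : ∃ P : Sylow p (Matrix.ProjectiveSpecialLinearGroup (Fin 2) F),
      M ≤ Subgroup.normalizer ((P : Subgroup (Matrix.ProjectiveSpecialLinearGroup (Fin 2) F)) :
        Set (Matrix.ProjectiveSpecialLinearGroup (Fin 2) F))
  · left
    have := card_of_normal_pgroup h4 p hM hN
    rwa [hd] at this
  right
  rcases psl_subgroup_cases p M with ⟨k, hk, h⟩ | ⟨-, hP⟩ | ⟨-, h⟩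
  · obtain ⟨⟨e⟩, hk3, hkk⟩ := dihedral_of_maximal h4 p hM hk h
    have hc : Nat.card M = 2 * k := by rw [Nat.card_congr e.toEquiv, DihedralGroup.nat_card]
    rw [hd] at hkk
    rcases hkk with hkk | hkk
    · left
      refine ⟨?_, k, hkk, ⟨e⟩⟩
      by_contra hlt
      exact dihedral_excluded hqodd hM hc (by omega)
    · right; left
      refine ⟨fun h7 => dihedral_excluded hqodd hM hc (by omega),
        fun h9 => dihedral_excluded hqodd hM hc (by omega), k, hkk, ⟨e⟩⟩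
  · exact absurd hP hN
  refine Or.inr (Or.inr ?_)
  rcases h with ⟨⟨e⟩⟩ | ⟨⟨e⟩⟩ | ⟨⟨e⟩⟩ | ⟨K, _, _, m, hKp, h3, hm, h⟩
  · rcases alternating_four_case p hp2 hn hn0 h5 hM e with ⟨h1, h2, h3⟩ | h
    · exact Or.inr (Or.inr (Or.inr (Or.inl ⟨h1, h2, h3, ⟨e⟩⟩)))
    · exact Or.inr (Or.inl h)
  · rcases perm_four_case p hp2 hn hn0 h5 hM e with ⟨h1, h2⟩ | h
    · exact Or.inr (Or.inr (Or.inr (Or.inr ⟨h1, h2, ⟨e⟩⟩)))
    · exact Or.inl h
  · rcases alternating_five_case p hp2 hn hn0 h5 hM e with ⟨h1, h2⟩ | h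
    · exact Or.inr (Or.inr (Or.inl ⟨h1, h2, ⟨e⟩⟩))
    · exact Or.inr (Or.inl h)
  haveI := hKp
  obtain ⟨k, hk, hk0, hnk⟩ := exists_exponent p hn hm
  have hm0 : m ≠ 0 := by rintro rfl; omega
  have hpar : p ^ k % 2 = Fintype.card F % 2 := by rw [hn]; exact pow_parity p k n hk0 hn0
  have hm1 : m ≠ 1 := by
    rintro rfl
    rw [pow_one] at hm
    exact hM.1 (eq_top_of_full hm h)
  rcases h with ⟨⟨e⟩, -⟩ | ⟨⟨e⟩⟩
  · right; left
    have hlt : k < n := by rw [hnk]; exact lt_mul_of_one_lt_right hk0 (by omega)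
    obtain ⟨hpr, hod⟩ := psl_field_max p h4 hn ⟨m, hnk⟩ hlt hM hN hk e
    rw [hnk, Nat.mul_div_cancel_left _ hk0] at hpr hod
    exact ⟨K, inferInstance, inferInstance, m, hpr, hod hp2, hm.symm, ⟨e⟩⟩
  · left
    have hev : Even m := even_of_pgl_subgroup hm hqodd M e
    obtain ⟨l, hl⟩ := hev
    by_cases hm2 : m = 2
    · subst hm2
      exact ⟨K, inferInstance, inferInstance, hm.symm, ⟨e⟩⟩
    exfalso
    have hlt : 2 * k < n := by
      rw [hnk, mul_comm 2 k]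
      exact Nat.mul_lt_mul_of_pos_left (show 2 < m by omega) hk0
    have h2k : 2 * k ∣ n := ⟨l, by rw [hnk, hl]; ring⟩
    have hcM : Nat.card M = p ^ k * ((p ^ k) ^ 2 - 1) := by
      rw [Nat.card_congr e.toEquiv, card_PGL_two_eq, hk]
    have hpM : p ∣ Nat.card M := hcM ▸ (dvd_pow_self p hk0.ne').mul_right _
    obtain ⟨U, hU⟩ := entries_of_transvections p (fixField p (2 * k)) hpM hN fun g hg =>
      (trace_mem_of_iso_pgl p hk hpar e hg).1
    obtain ⟨hc, -, -⟩ := subfield_max p h4 hn h2k hlt hM U hU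
    rw [hd, hcM, show p ^ (2 * k) = (p ^ k) ^ 2 by rw [mul_comm, pow_mul]] at hc
    set r := p ^ k
    have hr3 : 3 ≤ r := hk ▸ h3
    have h1 : 8 ≤ r ^ 2 - 1 := by have := Nat.pow_le_pow_left hr3 2; omega
    have h9 : 9 ≤ r ^ 2 := by have := Nat.pow_le_pow_left hr3 2; omega
    have hlt' : 2 * (r * (r ^ 2 - 1)) < r ^ 2 * ((r ^ 2) ^ 2 - 1) := by
      rw [← mul_assoc]
      refine Nat.mul_lt_mul_of_le_of_lt ?_ ?_ (by omega)
      · rw [sq]; exact Nat.mul_le_mul_right r (by omega)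
      · have h3' : r ^ 2 * 2 ≤ r ^ 2 * r ^ 2 := Nat.mul_le_mul_left _ (by omega)
        rw [← sq] at h3'
        omega
    omega

end Cfsg.Lib.Dickson
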